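import Cfsg.Agent.ThRel.Model.Ker
import Cfsg.Agent.ThRel.Interface

/-!
# Evaluating words in the centraliser of the involution
-/

set_option autoImplicit false
set_option maxRecDepth 100000

namespace Cfsg.Agent.ThRel.Model

open Cfsg.Agent.CosetCert
open Cfsg.Agent.ThCent (PC perm9 toTh phiA)

/-- A letter as a free word: the generators, their inverses and the codes of `Q`. -/
def expLet (k : Nat) : List (Fin 7 × Bool) :=
  if k < 14 then [(Fin.ofNat 7 k, decide (k < 7))] else qexp (k - 14)

/-- A word as a free word. -/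
def expand (w : List Nat) : List (Fin 7 × Bool) := w.flatMap expLet

/-- All letters are in range. -/
def okW (w : List Nat) : Bool := w.all fun k => Nat.blt k 526

theorem okW_iff {w : List Nat} : okW w = true ↔ ∀ k ∈ w, k < 526 := by
  simp only [okW, List.all_eq_true, blt_iff]

theorem sigma_genW : ∀ j, j < 9 → sigma (wd (genW j)) = 1 := by
  intro j hj
  refine enc_injective ?_
  rw [sigma_wd, enc_one]
  exact (show ∀ i : Fin 9, sigRun ((genW i.val).map code) idSig = idSig by decide +kernel) ⟨j, hj⟩

theorem sigma_qexp (n : Nat) : sigma (wd (qexp n)) = 1 := by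
  unfold qexp
  have key : ∀ l : List Nat, (∀ j ∈ l, j < 9) → sigma (wd (l.flatMap genW)) = 1 := by
    intro l
    induction l with
    | nil => intro _; rw [List.flatMap_nil, wd_nil, map_one]
    | cons i l ih =>
      intro hl
      rw [List.flatMap_cons, wd_append, map_mul, sigma_genW i (hl i List.mem_cons_self),
        ih fun j hj => hl j (List.mem_cons_of_mem _ hj), one_mul]
  exact key _ (bitsQ_lt n)

theorem code_expLet {k : Nat} (hk : k < 14) : (expLet k).map code = [k] := by
  rw [expLet, if_pos hk]
  simp only [List.map_cons, List.map_nil, code]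
  congr 1
  by_cases h : k < 7
  · simp [h, Fin.val_ofNat, Nat.mod_eq_of_lt h]
  · simp [h, Fin.val_ofNat]
    omega

theorem run_expand : ∀ w : List Nat, (∀ k ∈ w, k < 526) → ∀ p, p < 61440 →
    run ((expand w).map code) p = run w p ∧ run w p < 61440
  | [], _, p, hp => ⟨rfl, hp⟩
  | k :: w, hw, p, hp => by
    have hk := hw k List.mem_cons_self
    have hw' := fun j hj => hw j (List.mem_cons_of_mem k hj)
    rw [expand, List.flatMap_cons, List.map_append, run_append, run_cons]
    rcases Nat.lt_or_ge k 14 with h | h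
    · rw [code_expLet h, run_cons, run_nil]
      exact run_expand w hw' _ (step_lt h hp)
    · obtain ⟨i, r, hi, hr, rfl⟩ : ∃ i r, i < 120 ∧ r < 512 ∧ i * 512 + r = p :=
        ⟨p / 512, p % 512, by omega, by omega, by omega⟩
      have hq : k - 14 < 512 := by omega
      have e : step k (i * 512 + r) = i * 512 + mulQ r (k - 14) := by
        conv_lhs => rw [show k = 14 + (k - 14) by omega]
        exact step_code hr
      rw [expLet, if_neg (by omega), run_qexp hi hr hq, e]
      exact run_expand w hw' _ (by have := mulQ_lt hr hq; omega)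

theorem sigma_expand : ∀ (w : List Nat) (π : Equiv.Perm (Fin 9)),
    sigRun w (enc π) = enc (π * sigma (wd (expand w)))
  | [], π => by rw [expand, List.flatMap_nil, wd_nil, map_one, mul_one]; rfl
  | k :: w, π => by
    rw [expand, List.flatMap_cons, wd_append, map_mul, ← mul_assoc, sigRun_cons]
    by_cases h : k < 14
    · have e : sigStep k (enc π) = enc (π * sigma (wd (expLet k))) := by
        rw [sigma, MonoidHom.comp_apply, show phiA (toPA (wd (expLet k))) = sigma (wd (expLet k)) from rfl,
          wd, sigma_mk, ← sigRun_enc, code_expLet h, sigRun_cons]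
        rfl
      rw [e]
      exact sigma_expand w _
    · have e : sigStep k (enc π) = enc π := by
        rw [sigStep, show Nat.blt k 14 = false from by
          rw [Bool.eq_false_iff]; exact fun hh => h (blt_iff.1 hh)]
      rw [e, expLet, if_neg h, sigma_qexp, mul_one]
      exact sigma_expand w _

theorem ev_expand {w : List Nat} (hw : okW w = true) : ev ((expand w).map code) = ev w := by
  have hs : sigRun ((expand w).map code) idSig = sigRun w idSig := by
    rw [← sigma_wd, ← enc_one, sigma_expand, one_mul]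
  show run _ 0 + 65536 * _ = run w 0 + 65536 * _
  rw [(run_expand w (okW_iff.1 hw) 0 (by norm_num)).1, hs]

variable {G : Type*} [Group G] (R : CData G)

/-- A word in the centraliser. -/
noncomputable def gv (w : List Nat) : G := R.f (wd (expand w))

theorem gv_append (v w : List Nat) : gv R (v ++ w) = gv R v * gv R w := by
  rw [gv, expand, List.flatMap_append, wd_append, map_mul]; rfl

theorem gv_nil : gv R [] = 1 := by rw [gv, expand, List.flatMap_nil, wd_nil, map_one]

theorem gv_cons (k : Nat) (w : List Nat) : gv R (k :: w) = gv R [k] * gv R w :=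
  gv_append R [k] w

theorem gv_mem (w : List Nat) : Commute (gv R w) R.A := by
  have h : gv R w ∈ Subgroup.centralizer ({R.A} : Set G) := by
    rw [CData.A, ← R.range]; exact ⟨_, rfl⟩
  exact Subgroup.mem_centralizer_singleton_iff.1 h

/-- Equality in the group is equality of states. -/
theorem gv_eq_iff {v w : List Nat} (hv : okW v = true) (hw : okW w = true) :
    gv R v = gv R w ↔ ev v = ev w := by
  rw [← ev_expand hv, ← ev_expand hw, ← ker_iff_state, ← R.ker, MonoidHom.mem_ker, map_mul, map_inv,
    inv_mul_eq_one]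
  rfl

theorem gv_eq {v w : List Nat} (hv : okW v = true) (hw : okW w = true) (h : Nat.beq (ev v) (ev w) = true) :
    gv R v = gv R w := (gv_eq_iff R hv hw).2 (Nat.eq_of_beq_eq_true h)

theorem gv_ne {v w : List Nat} (hv : okW v = true) (hw : okW w = true) (h : Nat.beq (ev v) (ev w) = false) :
    gv R v ≠ gv R w := fun e => by
  rw [(gv_eq_iff R hv hw).1 e, Nat.beq_refl] at h
  exact absurd h (by decide)

/-- The inverse word. -/
def invW (w : List Nat) : List Nat :=
  w.reverse.map fun k => if k < 14 then ivl k else 14 + invQ (k - 14)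

theorem invW_ok {w : List Nat} (hw : okW w = true) : okW (invW w) = true := by
  refine okW_iff.2 fun k hk => ?_
  obtain ⟨j, hj, rfl⟩ := List.mem_map.1 hk
  have := okW_iff.1 hw j (List.mem_reverse.1 hj)
  split_ifs with h
  · unfold ivl; omega
  · have : invQ (j - 14) < 512 := (invQ_spec ⟨j - 14, by omega⟩).1
    omega

theorem gv_letter_inv {k : Nat} (hk : k < 526) :
    gv R (invW [k]) = (gv R [k])⁻¹ := by
  have hok : okW [k] = true := okW_iff.2 (by simpa using hk)
  refine eq_inv_of_mul_eq_one_left ?_
  rw [← gv_append, ← gv_nil R]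
  refine (gv_eq_iff R (by simp only [okW, List.all_append, Bool.and_eq_true] at *; exact ⟨invW_ok hok, hok⟩)
    rfl).2 ?_
  have e : invW [k] = [if k < 14 then ivl k else 14 + invQ (k - 14)] := rfl
  rw [e]
  split_ifs with h
  · have h1 : ivl k < 14 := by unfold ivl; omega
    have h2 : ivl (ivl k) = k := by unfold ivl; omega
    show run [ivl k, k] 0 + 65536 * sigRun [ivl k, k] idSig = run [] 0 + 65536 * sigRun [] idSig
    have hs := step_ivl (k := ivl k) (p := 0) h1 (by norm_num)
    rw [h2] at hs
    rw [run_cons, run_cons, run_nil, hs, run_nil]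
    congr 2
    exact (show ∀ j : Fin 14, sigRun [ivl j.val, j.val] idSig = idSig by decide +kernel) ⟨k, h⟩
  · obtain ⟨q, rfl⟩ : ∃ q, k = 14 + q := ⟨k - 14, by omega⟩
    rw [Nat.add_sub_cancel_left]
    obtain ⟨h1, h2, -⟩ := invQ_spec ⟨q, by omega⟩
    simp only at h1 h2
    show run [14 + invQ q, 14 + q] 0 + 65536 * sigRun [14 + invQ q, 14 + q] idSig = _
    have hs : ∀ j g, sigStep (14 + j) g = g := fun j g => by
      rw [sigStep, show Nat.blt (14 + j) 14 = false from by
        rw [Bool.eq_false_iff]; intro hh; have := blt_iff.1 hh; omega]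
    rw [sigRun_cons, sigRun_cons, hs, hs, run_cons, run_cons, run_nil]
    have e1 := step_code (q := invQ q) (i := 0) (r := 0) (by norm_num)
    rw [Nat.zero_mul, Nat.zero_add, zero_mulQ] at e1
    have e2 := step_code (q := q) (i := 0) (r := invQ q) h1
    rw [Nat.zero_mul, Nat.zero_add, h2] at e2
    simp only [Nat.zero_add] at e1 e2 ⊢
    rw [e1, e2]
    rfl

theorem gv_invW : ∀ {w : List Nat}, okW w = true → gv R (invW w) = (gv R w)⁻¹
  | [], _ => by rw [invW, List.reverse_nil, List.map_nil, gv_nil, inv_one]
  | k :: w, h => by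
    have h' := okW_iff.1 h
    rw [gv_cons R k w, mul_inv_rev, ← gv_letter_inv R (h' k List.mem_cons_self),
      ← gv_invW (w := w) (okW_iff.2 fun j hj => h' j (List.mem_cons_of_mem _ hj)), ← gv_append]
    congr 1
    simp [invW]

/-- Every element of the centraliser is a word. -/
theorem exists_gv {g : G} (hg : Commute g R.A) : ∃ w, okW w = true ∧ gv R w = g := by
  obtain ⟨x, rfl⟩ : g ∈ R.f.range := by
    rw [R.range]; exact Subgroup.mem_centralizer_singleton_iff.2 hg.eq
  obtain ⟨y, rfl⟩ := PresentedGroup.mk_surjective (wordRels ThCent.CPC.relWords) x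
  obtain ⟨l, rfl⟩ : ∃ l, FreeGroup.mk l = y := ⟨y.toWord, FreeGroup.mk_toWord⟩
  refine ⟨l.map code, okW_iff.2 fun k hk => (codes_lt l k hk).trans (by norm_num), ?_⟩
  show R.f (wd _) = R.f (wd l)
  congr 1
  rw [expand]
  congr 1
  clear hg
  induction l with
  | nil => rfl
  | cons x l ih =>
    rw [List.map_cons, List.flatMap_cons, ih, expLet, if_pos (code_lt x)]
    obtain ⟨i, b⟩ := x
    cases b
    · rw [List.singleton_append]
      congr 1
      refine Prod.ext (Fin.ext ?_) ?_
      · simp [code, Fin.val_ofNat, Nat.mod_eq_of_lt i.2]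
      · simp [code]
    · rw [List.singleton_append]
      congr 1
      refine Prod.ext (Fin.ext ?_) ?_
      · simp [code, Fin.val_ofNat, Nat.mod_eq_of_lt i.2]
      · simp [code]

/-- The nine points' permutation of a word. -/
noncomputable def sigW (w : List Nat) : Equiv.Perm (Fin 9) := sigma (wd (expand w))

theorem enc_sigW (w : List Nat) : enc (sigW w) = sigRun w idSig := by
  rw [← enc_one, sigma_expand, one_mul]; rfl

theorem sigW_append (v w : List Nat) : sigW (v ++ w) = sigW v * sigW w := by
  rw [sigW, expand, List.flatMap_append, wd_append, map_mul]; rfl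

theorem sigW_even (w : List Nat) : Equiv.Perm.sign (sigW w) = 1 :=
  Equiv.Perm.mem_alternatingGroup.1 (ThCent.phiA_range_le ⟨_, rfl⟩)

theorem sigW_inv {w : List Nat} : sigW (invW w) = (sigW w)⁻¹ ↔ sigW (invW w ++ w) = 1 := by
  rw [sigW_append, mul_eq_one_iff_eq_inv]

theorem sigW_congr {v w : List Nat} (hv : okW v = true) (hw : okW w = true) (h : gv R v = gv R w) :
    sigW v = sigW w := by
  have e := (gv_eq_iff R hv hw).1 h
  refine enc_injective ?_
  rw [enc_sigW, enc_sigW]
  have h1 := (run_expand v (okW_iff.1 hv) 0 (by norm_num)).2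
  have h2 := (run_expand w (okW_iff.1 hw) 0 (by norm_num)).2
  simp only [ev, Nat.add_eq, Nat.mul_eq] at e
  omega

theorem sigma_surj (π : Equiv.Perm (Fin 9)) (h : Equiv.Perm.sign π = 1) : ∃ x, sigma x = π := by
  have hm : π ∈ phiA.range := by rw [ThCent.phiA_range]; exact Equiv.Perm.mem_alternatingGroup.2 h
  obtain ⟨y, rfl⟩ := hm
  have hs : Function.Surjective toPA := by
    rw [← MonoidHom.range_eq_top, eq_top_iff, ← PresentedGroup.closure_range_of (wordRels ThCent.CPA.relWords),
      Subgroup.closure_le]
    rintro _ ⟨i, rfl⟩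
    exact ⟨PresentedGroup.of i, PresentedGroup.toGroup.of _⟩
  obtain ⟨x, rfl⟩ := hs y
  exact ⟨x, rfl⟩

/-- The kernel of the map to nine points consists of the codes. -/
theorem exists_code_of_sigma {x : PC} (hx : sigma x = 1) : ∃ q, q < 512 ∧ (wd (qexp q))⁻¹ * x ∈ toTh.ker := by
  classical
  have hle : toTh.ker ≤ sigma.ker := fun y hy => (ker_le_sigma hy).2
  have hidx : (toTh.ker.subgroupOf sigma.ker).index = 512 := by
    have h := Subgroup.relIndex_mul_index hle
    rw [Subgroup.index_ker, Subgroup.index_ker, card_toTh_range,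
      show sigma.range = alternatingGroup (Fin 9) from le_antisymm
        (fun _ ⟨y, hy⟩ => hy ▸ ThCent.phiA_range_le ⟨_, rfl⟩)
        (fun π hπ => sigma_surj π (Equiv.Perm.mem_alternatingGroup.1 hπ)), ThCent.card_alt9] at h
    change toTh.ker.relIndex sigma.ker = 512
    exact Nat.eq_of_mul_eq_mul_right (show 0 < 181440 by norm_num) (h.trans (by norm_num))
  have hfin : Finite (sigma.ker ⧸ toTh.ker.subgroupOf sigma.ker) :=
    Nat.finite_of_card_ne_zero (by rw [← Subgroup.index_eq_card, hidx]; norm_num)
  let F : Fin 512 → sigma.ker ⧸ toTh.ker.subgroupOf sigma.ker :=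
    fun q => QuotientGroup.mk (⟨wd (qexp q.val), sigma_qexp q.val⟩ : sigma.ker)
  have hinj : Function.Injective F := by
    intro p q h
    have h' : (wd (qexp p.val))⁻¹ * wd (qexp q.val) ∈ toTh.ker :=
      Subgroup.mem_subgroupOf.1 (QuotientGroup.eq.1 h)
    have e := (ker_iff_state _ _).1 h'
    have hc : ∀ n, n < 512 → run ((qexp n).map code) 0 = n := fun n hn => by
      have := run_qexp (i := 0) (r := 0) (by norm_num) (by norm_num) hn
      rwa [Nat.zero_mul, Nat.zero_add, zero_mulQ, Nat.zero_add] at this
    have hs : ∀ n, sigRun ((qexp n).map code) idSig = idSig := fun n => by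
      rw [← sigma_wd, sigma_qexp, enc_one]
    simp only [ev, Nat.add_eq, Nat.mul_eq, hc _ p.2, hc _ q.2, hs] at e
    exact Fin.ext (by omega)
  have hbij := (Nat.bijective_iff_injective_and_card F).2
    ⟨hinj, by rw [Nat.card_fin, ← Subgroup.index_eq_card, hidx]⟩
  obtain ⟨q, hq⟩ := hbij.2 (QuotientGroup.mk (⟨x, hx⟩ : sigma.ker))
  exact ⟨q.val, q.2, Subgroup.mem_subgroupOf.1 (QuotientGroup.eq.1 hq)⟩

/-- A word with a given permutation differs from any other by a code. -/
theorem exists_code_right {v w : List Nat} (h : sigW v = sigW w) :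
    ∃ q, q < 512 ∧ gv R v = gv R (w ++ [14 + q]) := by
  obtain ⟨q, hq, hk⟩ := exists_code_of_sigma (x := (wd (expand w))⁻¹ * wd (expand v))
    (by rw [map_mul, map_inv]; exact inv_mul_eq_one.2 h.symm)
  refine ⟨q, hq, ?_⟩
  rw [← R.ker, MonoidHom.mem_ker, map_mul, map_mul, map_inv, map_inv] at hk
  rw [gv_append]
  have e : gv R [14 + q] = R.f (wd (qexp q)) := by
    rw [gv, expand, List.flatMap_cons, List.flatMap_nil, List.append_nil, expLet, if_neg (by omega),
      Nat.add_sub_cancel_left]
  rw [e, gv, gv, inv_mul_eq_one.1 hk, mul_inv_cancel_left]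

end Cfsg.Agent.ThRel.Model
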