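import Cfsg.Agent.ThRel.Model.Perm

/-!
# Searches among the permutations of nine points
-/

set_option autoImplicit false
set_option maxRecDepth 100000

namespace Cfsg.Agent.ThRel.Model

open Cfsg.Agent.CosetCert
open Cfsg.Agent.ThCent (perm9)

/-- A hexadecimal digit. -/
noncomputable def dig (P j : Nat) : Nat := Nat.land (Nat.shiftRight P (Nat.mul 4 j)) 15

/-- Implication, lazy in the conclusion. -/
noncomputable def imp (b c : Bool) : Bool := Bool.rec (motive := fun _ => Bool) true c b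

@[simp] theorem imp_eq (b c : Bool) : imp b c = (!b || c) := by cases b <;> rfl

/-- Extend a prefix of images one point at a time, keeping only admissible prefixes. -/
noncomputable def searchB (ok : Nat → Nat → Bool) (leaf : Nat → Bool) (n k P : Nat) : Bool :=
  Nat.rec (motive := fun _ => Nat → Nat → Bool) (fun _ P => leaf P)
    (fun _ ih k P => allFrom (fun v => force (Nat.add P (Nat.shiftLeft v (Nat.mul 4 k))) fun Q =>
      force (Nat.succ k) fun k' => imp (ok k' Q) (ih k' Q)) 0 9) n k P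

/-- The first `k` images. -/
def pref (π : Equiv.Perm (Fin 9)) (k : Nat) : Nat := enc π % 2 ^ (4 * k)

theorem dig_enc (π : Equiv.Perm (Fin 9)) (j : Fin 9) : dig (enc π) j.val = (π j).val := enc_digit π j

theorem dig_pref (π : Equiv.Perm (Fin 9)) (k : Nat) (j : Fin 9) (h : j.val < k) :
    dig (pref π k) j.val = (π j).val := by
  rw [← dig_enc π j, pref]
  refine Nat.eq_of_testBit_eq fun i => ?_
  simp only [dig, Nat.land_eq, Nat.shiftRight_eq, Nat.mul_eq, Nat.testBit_and, Nat.testBit_shiftRight,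
    Nat.testBit_mod_two_pow]
  by_cases hi : i < 4
  · simp [show 4 * j.val + i < 4 * k by omega]
  · have e : (15 : Nat).testBit i = false := Nat.testBit_lt_two_pow
      (lt_of_lt_of_le (by norm_num : (15 : Nat) < 2 ^ 4) (Nat.pow_le_pow_right (by norm_num) (by omega)))
    simp [e]

theorem enc_lt (π : Equiv.Perm (Fin 9)) : enc π < 2 ^ (4 * 9) := by
  simp only [enc]
  omega

theorem pref_nine (π : Equiv.Perm (Fin 9)) : pref π 9 = enc π := Nat.mod_eq_of_lt (enc_lt π)

theorem pref_succ (π : Equiv.Perm (Fin 9)) (k : Fin 9) :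
    pref π (k.val + 1) = Nat.add (pref π k.val) (Nat.shiftLeft (π k).val (Nat.mul 4 k.val)) := by
  rw [← dig_enc π k]
  simp only [pref, dig, Nat.add_eq, Nat.mul_eq, Nat.shiftLeft_eq', Nat.shiftLeft_eq, Nat.shiftRight_eq,
    Nat.land_eq]
  rw [show (15 : Nat) = 2 ^ 4 - 1 from rfl, Nat.and_two_pow_sub_one_eq_mod, Nat.shiftRight_eq_div_pow,
    show 4 * (k.val + 1) = 4 * k.val + 4 by ring, pow_add, Nat.mod_mul,
    Nat.mul_comm (2 ^ (4 * k.val))]

theorem search_sound {ok : Nat → Nat → Bool} {leaf : Nat → Bool} (π : Equiv.Perm (Fin 9))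
    (hok : ∀ k, k ≤ 9 → ok k (pref π k) = true) :
    ∀ n k, k + n = 9 → searchB ok leaf n k (pref π k) = true → leaf (enc π) = true
  | 0, k, hk, h => by
    rw [show k = 9 by omega, pref_nine] at h
    exact h
  | n + 1, k, hk, h => by
    have hlt : k < 9 := by omega
    have h1 : allFrom (fun v => force (Nat.add (pref π k) (Nat.shiftLeft v (Nat.mul 4 k))) fun Q =>
      force (Nat.succ k) fun k' => imp (ok k' Q) (searchB ok leaf n k' Q)) 0 9 = true := h
    have h2 := (allFrom_iff _ _ _).1 h1 (π ⟨k, hlt⟩).val (Nat.zero_le _) (by omega)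
    simp only [force_eq] at h2
    rw [← pref_succ π ⟨k, hlt⟩, imp_eq, hok (k + 1) (by omega), Bool.not_true, Bool.false_or] at h2
    exact search_sound π hok n (k + 1) (by omega) h2

theorem searchB_root {ok : Nat → Nat → Bool} {leaf : Nat → Bool} (π : Equiv.Perm (Fin 9))
    (hok : ∀ k, k ≤ 9 → ok k (pref π k) = true) (h : searchB ok leaf 9 0 0 = true) :
    leaf (enc π) = true :=
  search_sound π hok 9 0 rfl (by rwa [show pref π 0 = 0 from Nat.mod_one _])

attribute [local irreducible] searchB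

/-- An involution prefix. -/
noncomputable def okInv (k P : Nat) : Bool :=
  allFrom (fun j => force (dig P j) fun d => imp (Nat.blt d k) (Nat.beq (dig P d) j)) 0 k

/-- A prefix carrying the first permutation to the second. -/
noncomputable def okComm (τ τ' k P : Nat) : Bool :=
  allFrom (fun j => force (dig τ j) fun tj =>
    imp (Nat.blt tj k) (Nat.beq (dig P tj) (dig τ' (dig P j)))) 0 k

theorem okInv_sound {π : Equiv.Perm (Fin 9)} (h : π * π = 1) (k : Nat) (hk : k ≤ 9) :
    okInv k (pref π k) = true := by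
  refine (allFrom_iff _ _ _).2 fun j _ hj => ?_
  have hj9 : j < 9 := by omega
  simp only [force_eq, imp_eq]
  rw [show j = (⟨j, hj9⟩ : Fin 9).val from rfl, dig_pref π k ⟨j, hj9⟩ (by simp; omega)]
  rcases Nat.lt_or_ge (π ⟨j, hj9⟩).val k with h' | h'
  · rw [dig_pref π k (π ⟨j, hj9⟩) h',
      show π (π ⟨j, hj9⟩) = ⟨j, hj9⟩ from Equiv.congr_fun h _, Nat.beq_refl, Bool.or_true]
  · rw [show Nat.blt (π ⟨j, hj9⟩).val k = false from by
      rw [Bool.eq_false_iff]; exact fun hh => absurd (blt_iff.1 hh) (by omega)]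
    rfl

theorem okComm_sound {π τ τ' : Equiv.Perm (Fin 9)} (h : π * τ = τ' * π) (k : Nat) (hk : k ≤ 9) :
    okComm (enc τ) (enc τ') k (pref π k) = true := by
  refine (allFrom_iff _ _ _).2 fun j _ hj => ?_
  have hj9 : j < 9 := by omega
  simp only [force_eq, imp_eq]
  rw [show j = (⟨j, hj9⟩ : Fin 9).val from rfl, dig_pref π k ⟨j, hj9⟩ (by simp; omega), dig_enc, dig_enc]
  rcases Nat.lt_or_ge (τ ⟨j, hj9⟩).val k with h' | h'
  · rw [dig_pref π k (τ ⟨j, hj9⟩) h',
      show π (τ ⟨j, hj9⟩) = τ' (π ⟨j, hj9⟩) from Equiv.congr_fun h _, Nat.beq_refl, Bool.or_true]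
  · rw [show Nat.blt (τ ⟨j, hj9⟩).val k = false from by
      rw [Bool.eq_false_iff]; exact fun hh => absurd (blt_iff.1 hh) (by omega)]
    rfl

/-- The permutation of `s`. -/
abbrev pS : Equiv.Perm (Fin 9) := perm9 4
/-- The permutation of `t`. -/
abbrev pT : Equiv.Perm (Fin 9) := perm9 5

theorem enc_pS : enc pS = 0x873610452 := by decide
theorem enc_pT : enc pT = 0x876204153 := by decide
theorem enc_pT_inv : enc pT⁻¹ = 0x876130524 := by decide

/-- Words for the even involutions (and 1) commuting with `t`. -/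
def liftsComm : List (List Nat) := [
  [],
  [2],
  [3, 2, 6, 2, 6],
  [3, 6, 2, 3, 6],
  [2, 6, 2, 6, 2],
  [3],
  [2, 3, 6, 2, 6],
  [6, 2, 6],
  [2, 6, 2, 3, 6],
  [2, 3, 2]]

/-- The odd ones. -/
noncomputable def oddComm : List (Equiv.Perm (Fin 9)) := [
  Equiv.swap 7 8,
  Equiv.swap 6 7,
  Equiv.swap 6 8,
  Equiv.swap 0 1 * Equiv.swap 2 4 * Equiv.swap 3 5,
  Equiv.swap 0 2 * Equiv.swap 1 3 * Equiv.swap 4 5,
  Equiv.swap 0 5 * Equiv.swap 1 4 * Equiv.swap 2 3]

/-- Words for the even involutions (and 1) inverting `t`. -/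
def liftsInv : List (List Nat) := [
  [3, 2, 5, 6, 2, 3],
  [2, 6, 2, 5],
  [6],
  [2, 3, 2, 5, 6, 2, 3],
  [3, 5, 6],
  [2, 3, 5, 6, 2],
  [2, 3, 2, 6, 2, 3],
  [3, 6],
  [2, 3, 6, 2],
  [2, 6, 2],
  [5, 6],
  [3, 2, 6, 2, 3, 5],
  [6, 5],
  [3, 2, 6, 2, 3],
  [2, 5, 6, 2],
  [2, 3, 2, 6, 2, 3, 5],
  [3, 6, 5],
  [2, 3, 6, 2, 5]]

/-- The odd ones. -/
noncomputable def oddInv : List (Equiv.Perm (Fin 9)) := [
  Equiv.swap 2 5 * Equiv.swap 3 4 * Equiv.swap 7 8,
  Equiv.swap 2 5 * Equiv.swap 3 4 * Equiv.swap 6 7,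
  Equiv.swap 2 5 * Equiv.swap 3 4 * Equiv.swap 6 8,
  Equiv.swap 1 2 * Equiv.swap 3 4 * Equiv.swap 7 8,
  Equiv.swap 1 2 * Equiv.swap 3 4 * Equiv.swap 6 7,
  Equiv.swap 1 2 * Equiv.swap 3 4 * Equiv.swap 6 8,
  Equiv.swap 1 5 * Equiv.swap 3 4 * Equiv.swap 7 8,
  Equiv.swap 1 5 * Equiv.swap 3 4 * Equiv.swap 6 7,
  Equiv.swap 1 5 * Equiv.swap 3 4 * Equiv.swap 6 8,
  Equiv.swap 0 1 * Equiv.swap 2 3 * Equiv.swap 4 5,
  Equiv.swap 0 2 * Equiv.swap 1 4 * Equiv.swap 3 5,
  Equiv.swap 0 3 * Equiv.swap 2 5 * Equiv.swap 7 8,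
  Equiv.swap 0 3 * Equiv.swap 2 5 * Equiv.swap 6 7,
  Equiv.swap 0 3 * Equiv.swap 2 5 * Equiv.swap 6 8,
  Equiv.swap 0 3 * Equiv.swap 1 2 * Equiv.swap 7 8,
  Equiv.swap 0 3 * Equiv.swap 1 2 * Equiv.swap 6 7,
  Equiv.swap 0 3 * Equiv.swap 1 2 * Equiv.swap 6 8,
  Equiv.swap 0 3 * Equiv.swap 1 5 * Equiv.swap 7 8,
  Equiv.swap 0 3 * Equiv.swap 1 5 * Equiv.swap 6 7,
  Equiv.swap 0 3 * Equiv.swap 1 5 * Equiv.swap 6 8,
  Equiv.swap 0 4 * Equiv.swap 2 5 * Equiv.swap 7 8,
  Equiv.swap 0 4 * Equiv.swap 2 5 * Equiv.swap 6 7,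
  Equiv.swap 0 4 * Equiv.swap 2 5 * Equiv.swap 6 8,
  Equiv.swap 0 4 * Equiv.swap 1 2 * Equiv.swap 7 8,
  Equiv.swap 0 4 * Equiv.swap 1 2 * Equiv.swap 6 7,
  Equiv.swap 0 4 * Equiv.swap 1 2 * Equiv.swap 6 8,
  Equiv.swap 0 4 * Equiv.swap 1 5 * Equiv.swap 7 8,
  Equiv.swap 0 4 * Equiv.swap 1 5 * Equiv.swap 6 7,
  Equiv.swap 0 4 * Equiv.swap 1 5 * Equiv.swap 6 8,
  Equiv.swap 0 5 * Equiv.swap 1 3 * Equiv.swap 2 4]

/-- The leaf test: a listed lift or a listed odd permutation. -/
noncomputable def leafIn (L : List (List Nat)) (odd : List (Equiv.Perm (Fin 9))) (P : Nat) : Bool :=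
  (L.map fun w => sigRun w idSig).any (Nat.beq P) || (odd.map enc).any (Nat.beq P)

theorem leafIn_sound {L : List (List Nat)} {odd : List (Equiv.Perm (Fin 9))}
    (hodd : ∀ ρ ∈ odd, Equiv.Perm.sign ρ = -1) {π : Equiv.Perm (Fin 9)} (hπ : Equiv.Perm.sign π = 1)
    (h : leafIn L odd (enc π) = true) : ∃ w ∈ L, enc π = sigRun w idSig := by
  simp only [leafIn, Bool.or_eq_true, List.any_eq_true, List.mem_map] at h
  rcases h with ⟨_, ⟨w, hw, rfl⟩, he⟩ | ⟨_, ⟨ρ, hρ, rfl⟩, he⟩
  · exact ⟨w, hw, Nat.eq_of_beq_eq_true he⟩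
  · rw [enc_injective (Nat.eq_of_beq_eq_true he), hodd ρ hρ] at hπ
    exact absurd hπ (by decide)

theorem comm_search : searchB (fun k P => gate (okInv k P) (okComm 0x876204153 0x876204153 k P))
    (leafIn liftsComm oddComm) 9 0 0 = true := by
  decide +kernel

theorem inv_search : searchB (fun k P => gate (okInv k P) (okComm 0x876204153 0x876130524 k P))
    (leafIn liftsInv oddInv) 9 0 0 = true := by
  decide +kernel

theorem oddComm_sign : ∀ ρ ∈ oddComm, Equiv.Perm.sign ρ = -1 := by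
  simp [oddComm, Equiv.Perm.sign_swap', map_mul]
theorem oddInv_sign : ∀ ρ ∈ oddInv, Equiv.Perm.sign ρ = -1 := by
  simp [oddInv, Equiv.Perm.sign_swap', map_mul]

/-- An even involution, or 1, commuting with `t` is listed. -/
theorem mem_liftsComm {π : Equiv.Perm (Fin 9)} (hs : Equiv.Perm.sign π = 1) (h2 : π * π = 1)
    (ht : π * pT = pT * π) : ∃ w ∈ liftsComm, enc π = sigRun w idSig := by
  have hok : ∀ k, k ≤ 9 → gate (okInv k (pref π k)) (okComm 0x876204153 0x876204153 k (pref π k)) = true :=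
    fun k hk => by rw [gate_eq, Bool.and_eq_true, ← enc_pT]; exact ⟨okInv_sound h2 k hk, okComm_sound ht k hk⟩
  exact leafIn_sound oddComm_sign hs (searchB_root
    (ok := fun k P => gate (okInv k P) (okComm 0x876204153 0x876204153 k P)) π hok comm_search)

/-- An even involution, or 1, inverting `t` is listed. -/
theorem mem_liftsInv {π : Equiv.Perm (Fin 9)} (hs : Equiv.Perm.sign π = 1) (h2 : π * π = 1)
    (ht : π * pT = pT⁻¹ * π) : ∃ w ∈ liftsInv, enc π = sigRun w idSig := by
  have hok : ∀ k, k ≤ 9 → gate (okInv k (pref π k)) (okComm 0x876204153 0x876130524 k (pref π k)) = true :=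
    fun k hk => by
      rw [gate_eq, Bool.and_eq_true, ← enc_pT, ← enc_pT_inv]
      exact ⟨okInv_sound h2 k hk, okComm_sound ht k hk⟩
  exact leafIn_sound oddInv_sign hs (searchB_root
    (ok := fun k P => gate (okInv k P) (okComm 0x876204153 0x876130524 k P)) π hok inv_search)

/-- Apply a code of images `n` times to a point. -/
noncomputable def iterP (P n x : Nat) : Nat :=
  Nat.rec (motive := fun _ => Nat → Nat) (fun x => x) (fun _ ih x => ih (dig P x)) n x

theorem iterP_enc (π : Equiv.Perm (Fin 9)) : ∀ (n : Nat) (x : Fin 9),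
    iterP (enc π) n x.val = ((π ^ n) x).val
  | 0, x => by simp [iterP]
  | n + 1, x => by
    show iterP (enc π) n (dig (enc π) x.val) = _
    rw [dig_enc, iterP_enc π n (π x), pow_succ, Equiv.Perm.mul_apply]

/-- The codes of 1 and of the exchange of the two points fixed by `s`. -/
noncomputable def leafTwo (P : Nat) : Bool := Nat.beq P idSig || Nat.beq P 0x786543210

/-- The leaf test for a power being one. -/
noncomputable def leafPow (n : Nat) (leaf : Nat → Bool) (P : Nat) : Bool :=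
  imp (allFrom (fun x => Nat.beq (iterP P n x) x) 0 9) (leaf P)

theorem leafPow_sound {n : Nat} {leaf : Nat → Bool} {π : Equiv.Perm (Fin 9)} (h : π ^ n = 1)
    (hl : leafPow n leaf (enc π) = true) : leaf (enc π) = true := by
  have ha : allFrom (fun x => Nat.beq (iterP (enc π) n x) x) 0 9 = true := by
    refine (allFrom_iff _ _ _).2 fun x _ hx => ?_
    rw [show x = (⟨x, by omega⟩ : Fin 9).val from rfl, iterP_enc, h, Equiv.Perm.one_apply, Nat.beq_refl]
  rwa [leafPow, imp_eq, ha, Bool.not_true, Bool.false_or] at hl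

theorem five_search : searchB (okComm 0x876204153 0x876204153) (leafPow 5 (Nat.beq idSig)) 9 0 0 = true := by
  decide +kernel

theorem four_search : searchB (okComm 0x873610452 0x873610452) (leafPow 4 leafTwo) 9 0 0 = true := by
  decide +kernel

/-- The images are different. -/
noncomputable def injP (P : Nat) : Bool :=
  allFrom (fun i => allFrom (fun j => imp (Nat.beq (dig P i) (dig P j)) (Nat.beq i j)) 0 9) 0 9

theorem injP_enc (π : Equiv.Perm (Fin 9)) : injP (enc π) = true := by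
  refine (allFrom_iff _ _ _).2 fun i _ hi => (allFrom_iff _ _ _).2 fun j _ hj => ?_
  rw [imp_eq, show i = (⟨i, by omega⟩ : Fin 9).val from rfl, show j = (⟨j, by omega⟩ : Fin 9).val from rfl,
    dig_enc, dig_enc]
  by_cases h : i = j
  · subst h; rw [Nat.beq_refl, Nat.beq_refl]; rfl
  · have hne : Nat.beq (π ⟨i, by omega⟩).val (π ⟨j, by omega⟩).val = false := by
      rw [Bool.eq_false_iff]
      exact fun hh => h (congrArg Fin.val (π.injective (Fin.ext (Nat.eq_of_beq_eq_true hh))))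
    rw [hne]; rfl

theorem st_search : searchB (fun k P => gate (okComm 0x873610452 0x873610452 k P)
    (okComm 0x876204153 0x876204153 k P)) (fun P => imp (injP P) (leafTwo P)) 9 0 0 = true := by
  decide +kernel

/-- No element of order five commutes with `t`. -/
theorem eq_one_of_five {π : Equiv.Perm (Fin 9)} (h : π ^ 5 = 1) (ht : π * pT = pT * π) : π = 1 := by
  have := leafPow_sound h (searchB_root π (fun k hk => by rw [← enc_pT]; exact okComm_sound ht k hk)
    five_search)
  exact enc_injective ((Nat.eq_of_beq_eq_true this).symm.trans enc_one.symm)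

theorem eq_one_of_two {π : Equiv.Perm (Fin 9)} (hs : Equiv.Perm.sign π = 1)
    (h : leafTwo (enc π) = true) : π = 1 := by
  simp only [leafTwo, Bool.or_eq_true] at h
  rcases h with h | h
  · exact enc_injective ((Nat.eq_of_beq_eq_true h).trans enc_one.symm)
  · rw [enc_injective ((Nat.eq_of_beq_eq_true h).trans (by decide : _ = enc (Equiv.swap 7 8))),
      Equiv.Perm.sign_swap (by decide)] at hs
    exact absurd hs (by decide)

/-- An even element of exponent four commuting with `s` is trivial. -/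
theorem eq_one_of_four {π : Equiv.Perm (Fin 9)} (hs : Equiv.Perm.sign π = 1) (h : π ^ 4 = 1)
    (hS : π * pS = pS * π) : π = 1 :=
  eq_one_of_two hs (leafPow_sound h (searchB_root π
    (fun k hk => by rw [← enc_pS]; exact okComm_sound hS k hk) four_search))

/-- An even element commuting with `s` and `t` is trivial. -/
theorem eq_one_of_st {π : Equiv.Perm (Fin 9)} (hs : Equiv.Perm.sign π = 1)
    (hS : π * pS = pS * π) (hT : π * pT = pT * π) : π = 1 :=
  eq_one_of_two hs (by
    have h := searchB_root π (fun k hk => by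
      rw [gate_eq, Bool.and_eq_true, ← enc_pS, ← enc_pT]
      exact ⟨okComm_sound hS k hk, okComm_sound hT k hk⟩) st_search
    rwa [imp_eq, injP_enc, Bool.not_true, Bool.false_or] at h)

end Cfsg.Agent.ThRel.Model
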