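import Cfsg.Agent.ThRel.Model.Eval
import Cfsg.Agent.ThRel.Model.Nine
import Cfsg.Agent.ThRel.Local

/-!
# Facts about the centraliser read off the model: local facts and the class of `c`
-/

set_option autoImplicit false
set_option maxRecDepth 100000

namespace Cfsg.Agent.ThRel.Model

open Cfsg.Agent.CosetCert
open Cfsg.Agent.ThCent (PC perm9)

variable {G : Type*} [Group G] (R : CData G)

theorem gv_letter (b : Fin 7) : gv R [b.val] = R.f (PresentedGroup.of b) := by
  rw [gv, expand, List.flatMap_cons, List.flatMap_nil, List.append_nil, expLet, if_pos (by omega)]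
  congr 1
  rw [← wd_of]
  congr 3
  · exact Fin.ext (by simp [Fin.val_ofNat, Nat.mod_eq_of_lt b.2])
  · simp

theorem gA : R.A = gv R [0] := (gv_letter R 0).symm
theorem gC : R.C = gv R [1] := (gv_letter R 1).symm
theorem gD : R.D = gv R [2] := (gv_letter R 2).symm
theorem gE : R.E = gv R [3] := (gv_letter R 3).symm
theorem gS : R.S = gv R [4] := (gv_letter R 4).symm
theorem gT : R.T = gv R [5] := (gv_letter R 5).symm
theorem gU : R.U = gv R [6] := (gv_letter R 6).symm

theorem gv_letter_neg (b : Fin 7) : gv R [b.val + 7] = (gv R [b.val])⁻¹ := by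
  rw [← gv_letter_inv R (by omega : b.val < 526)]
  congr 1
  simp only [invW, List.reverse_cons, List.reverse_nil, List.nil_append, List.map_cons, List.map_nil,
    if_pos (show b.val < 14 by omega), ivl]
  congr 1
  omega

/-- An element of `Q`. -/
noncomputable def gQv (q : Nat) : G := gv R [14 + q]

theorem ev_code {q : Nat} (hq : q < 512) : ev [14 + q] = q + 65536 * idSig := by
  show run [14 + q] 0 + 65536 * sigRun [14 + q] idSig = _
  have e1 := step_code (q := q) (i := 0) (r := 0) (by norm_num)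
  rw [Nat.zero_mul, Nat.zero_add, zero_mulQ] at e1
  rw [run_cons, run_nil, e1, Nat.zero_add, sigRun_cons, sigStep, show Nat.blt (14 + q) 14 = false from by
    rw [Bool.eq_false_iff]; intro hh; have := blt_iff.1 hh; omega]
  rfl

theorem okW_code {q : Nat} (hq : q < 512) : okW [14 + q] = true :=
  okW_iff.2 (by simp; omega)

theorem gQv_inj {p q : Nat} (hp : p < 512) (hq : q < 512) (h : gQv R p = gQv R q) : p = q := by
  have e := (gv_eq_iff R (okW_code hp) (okW_code hq)).1 h
  rw [ev_code hp, ev_code hq] at e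
  omega

theorem gQv_mul {p q : Nat} (hp : p < 512) (hq : q < 512) :
    gQv R p * gQv R q = gQv R (mulQ p q) := by
  rw [gQv, gQv, ← gv_append, gQv]
  refine (gv_eq_iff R (okW_iff.2 (by simp; omega)) (okW_code (mulQ_lt hp hq))).2 ?_
  rw [ev_code (mulQ_lt hp hq)]
  show run [14 + p, 14 + q] 0 + 65536 * sigRun [14 + p, 14 + q] idSig = _
  have hs : ∀ j g, sigStep (14 + j) g = g := fun j g => by
    rw [sigStep, show Nat.blt (14 + j) 14 = false from by
      rw [Bool.eq_false_iff]; intro hh; have := blt_iff.1 hh; omega]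
  have e1 := step_code (q := p) (i := 0) (r := 0) (by norm_num)
  rw [Nat.zero_mul, Nat.zero_add, zero_mulQ] at e1
  have e2 := step_code (q := q) (i := 0) (r := p) hp
  rw [Nat.zero_mul, Nat.zero_add, Nat.zero_add] at e2
  rw [sigRun_cons, sigRun_cons, hs, hs, run_cons, run_cons, run_nil, e1, Nat.zero_add, e2]
  rfl

theorem gQv_zero : gQv R 0 = 1 := by
  rw [gQv, ← gv_nil R]; exact gv_eq R (by decide) rfl (by decide +kernel)

theorem gA_code : R.A = gQv R 256 := by
  rw [gA]; exact gv_eq R (by decide) (by decide) (by decide +kernel)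

theorem gC_code : R.C = gQv R 1 := by
  rw [gC]; exact gv_eq R (by decide) (by decide) (by decide +kernel)

theorem gAC_code : R.A * R.C = gQv R 257 := by
  rw [gA, gC, ← gv_append]; exact gv_eq R (by decide) (by decide) (by decide +kernel)

theorem gCd_code : R.D⁻¹ * R.C * R.D = gQv R 2 := by
  rw [gD, gC, show (gv R [2])⁻¹ = gv R [9] from (gv_letter_neg R 2).symm, ← gv_append, ← gv_append]
  exact gv_eq R (by decide) (by decide) (by decide +kernel)

theorem gQv_comm_A (q : Nat) : Commute (gQv R q) R.A := gv_mem R _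

theorem conj_ok : allFrom (fun k => allFrom (fun r =>
    Nat.beq (ev [ivl k, 14 + r, k]) (ev [14 + phiQ k r])) 0 512) 0 14 = true := by
  decide +kernel

theorem gQv_conj_letter {k r : Nat} (hk : k < 14) (hr : r < 512) :
    (gv R [k])⁻¹ * gQv R r * gv R [k] = gQv R (phiQ k r) := by
  have h := (allFrom_iff _ _ _).1 ((allFrom_iff _ _ _).1 conj_ok k (Nat.zero_le _) (by omega)) r
    (Nat.zero_le _) (by omega)
  have e : invW [k] = [ivl k] := by simp [invW, hk]
  rw [← gv_letter_inv R (by omega : k < 526), e, gQv, ← gv_append, ← gv_append]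
  exact gv_eq R (okW_iff.2 (by simp; unfold ivl; omega)) (okW_code (phiQ_lt _ _)) h

/-- Every element of the centraliser is a word in the fourteen letters. -/
theorem exists_gv14 {g : G} (hg : Commute g R.A) : ∃ w, (∀ k ∈ w, k < 14) ∧ gv R w = g := by
  obtain ⟨w, hw, rfl⟩ := exists_gv R hg
  refine ⟨(expand w).map code, codes_lt _, (gv_eq_iff R (okW_iff.2 fun k hk => ?_) hw).2 ?_⟩
  · exact (codes_lt _ k hk).trans (by norm_num)
  · exact ev_expand hw

/-- Conjugates of elements of `Q` by the centraliser are in `Q`. -/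
theorem gQv_conj {g : G} (hg : Commute g R.A) {r : Nat} (hr : r < 512) :
    ∃ r', r' < 512 ∧ g⁻¹ * gQv R r * g = gQv R r' := by
  obtain ⟨w, hw, rfl⟩ := exists_gv14 R hg
  clear hg
  induction w generalizing r with
  | nil => exact ⟨r, hr, by simp [gv_nil]⟩
  | cons k w ih =>
    obtain ⟨r', h1, h2⟩ := ih (r := phiQ k r) (phiQ_lt _ _) (fun j hj => hw j (List.mem_cons_of_mem _ hj))
    refine ⟨r', h1, ?_⟩
    rw [← h2, ← gQv_conj_letter R (hw k List.mem_cons_self) hr, gv_cons]
    group

/-- The centraliser of the involution. -/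
abbrev cA : Subgroup G := Subgroup.centralizer ({R.A} : Set G)

/-- The map of the centraliser onto the presented one modulo the kernel to Th, composed with nine points. -/
noncomputable def sigG : cA R →* Equiv.Perm (Fin 9) :=
  (R.f.codRestrict (cA R) (fun x => by rw [cA, CData.A, ← R.range]; exact ⟨x, rfl⟩)).liftOfSurjective
    (fun g => by
      have h : g.1 ∈ R.f.range := by rw [R.range]; exact g.2
      obtain ⟨x, hx⟩ := h
      exact ⟨x, Subtype.ext hx⟩)
    ⟨sigma, fun x hx => (ker_le_sigma (show x ∈ ThCent.toTh.ker by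
      rw [← R.ker]; exact congrArg Subtype.val (MonoidHom.mem_ker.1 hx))).2⟩

theorem sigG_gv {g : cA R} {w : List Nat} (h : gv R w = g.1) : sigG R g = sigW w := by
  have e : g = (R.f.codRestrict (cA R) (fun x => by rw [cA, CData.A, ← R.range]; exact ⟨x, rfl⟩))
      (wd (expand w)) := Subtype.ext h.symm
  rw [e, sigG]
  exact MonoidHom.liftOfRightInverse_comp_apply _ _ _ _ _

theorem sigG_even (g : cA R) : Equiv.Perm.sign (sigG R g) = 1 := by
  obtain ⟨w, -, hw⟩ := exists_gv R (Subgroup.mem_centralizer_singleton_iff.1 g.2)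
  rw [sigG_gv R hw]
  exact sigW_even w

theorem sigG_code (g : cA R) (h : sigG R g = 1) : ∃ q, q < 512 ∧ g.1 = gQv R q := by
  obtain ⟨w, -, hw⟩ := exists_gv R (Subgroup.mem_centralizer_singleton_iff.1 g.2)
  obtain ⟨q, hq, he⟩ := exists_code_right R (v := w) (w := [])
    (by rw [← sigG_gv R hw, h, sigW, expand, List.flatMap_nil, wd_nil, map_one])
  exact ⟨q, hq, hw.symm.trans he⟩

theorem mem_cA {g : G} (h : Commute g R.A) : g ∈ cA R :=
  Subgroup.mem_centralizer_singleton_iff.2 h.eq

theorem sigW_pS : sigW [4] = pS := enc_injective (by rw [enc_sigW]; decide +kernel)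
theorem sigW_pT : sigW [5] = pT := enc_injective (by rw [enc_sigW]; decide +kernel)
theorem sigW_pT_inv : sigW [12] = pT⁻¹ := enc_injective (by rw [enc_sigW]; decide +kernel)

theorem sigG_comm {g h : cA R} (hgh : Commute g.1 h.1) :
    sigG R g * sigG R h = sigG R h * sigG R g := by
  rw [← map_mul, ← map_mul]
  exact congrArg (sigG R) (Subtype.ext hgh.eq)

/-- A word with the permutation of the element differs from it by a code. -/
theorem exists_lift {g : cA R} {w : List Nat} (h : enc (sigG R g) = sigRun w idSig) :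
    ∃ q, q < 512 ∧ g.1 = gv R (w ++ [14 + q]) := by
  obtain ⟨v, -, hv⟩ := exists_gv R (Subgroup.mem_centralizer_singleton_iff.1 g.2)
  rw [sigG_gv R hv, ← enc_sigW] at h
  obtain ⟨q, hq, he⟩ := exists_code_right R (enc_injective h)
  exact ⟨q, hq, hv.symm.trans he⟩

/-- Two words have the same state. -/
noncomputable def eqB (v w : List Nat) : Bool := Nat.beq (ev v) (ev w)

theorem eqB_iff {v w : List Nat} (hv : okW v = true) (hw : okW w = true) :
    eqB v w = true ↔ gv R v = gv R w := by
  rw [gv_eq_iff R hv hw]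
  exact ⟨Nat.eq_of_beq_eq_true, fun h => by rw [eqB, h, Nat.beq_refl]⟩

/-- The check for `[y, s] = y ^ (s ^ 3)` on a word for an involution. -/
noncomputable def relB (y : List Nat) : Bool := eqB (y ++ [11] ++ y ++ [4]) ([11, 11, 11] ++ y ++ [4, 4, 4])

theorem relB_of {y : List Nat} (hy : okW y = true) (h2 : gv R y * gv R y = 1) (h : SevenRel R (gv R y)) :
    relB y = true := by
  have hy' := okW_iff.1 hy
  refine (eqB_iff R (okW_iff.2 ?_) (okW_iff.2 ?_)).2 ?_
  · simp only [List.mem_append, List.mem_cons, List.not_mem_nil, or_false]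
    rintro k (((hk | rfl) | hk) | rfl) <;> first | exact hy' k hk | norm_num
  · simp only [List.mem_append, List.mem_cons, List.not_mem_nil, or_false]
    rintro k (((rfl | rfl | rfl) | hk) | (rfl | rfl | rfl)) <;> first | exact hy' k hk | norm_num
  · rw [SevenRel, inv_eq_of_mul_eq_one_right h2, gS] at h
    rw [gv_append, gv_append, gv_append, gv_append, gv_append,
      show gv R [11, 11, 11] = (gv R [4] ^ 3)⁻¹ by
        rw [← gv_invW R (w := [4, 4, 4]) (by decide) |>.trans (congrArg (·⁻¹) (by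
          rw [gv_cons, gv_cons R 4 [4], pow_succ, pow_two, mul_assoc]))]
        rfl,
      show gv R [4, 4, 4] = gv R [4] ^ 3 by
        rw [gv_cons, gv_cons R 4 [4], pow_succ, pow_two, mul_assoc],
      show gv R [11] = (gv R [4])⁻¹ from gv_letter_neg R 4]
    exact h

/-- The checks for an element of the kind of `e` next to the four-group of `a` and the given word. -/
noncomputable def condT (cc y : List Nat) : Bool :=
  eqB (y ++ y) [] && (eqB (y ++ cc) (cc ++ y) && (eqB (y ++ [5]) ([5] ++ y) && (relB y && !(eqB y []))))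

theorem okW_append {v w : List Nat} (hv : okW v = true) (hw : okW w = true) : okW (v ++ w) = true := by
  rw [okW, List.all_append, ← okW, ← okW, hv, hw]; rfl

theorem okW_lift {L : List (List Nat)} (hL : L.all okW = true) {w : List Nat} (hw : w ∈ L) {q : Nat}
    (hq : q < 512) : okW (w ++ [14 + q]) = true :=
  okW_append (List.all_eq_true.1 hL w hw) (okW_code hq)

theorem liftsComm_ok : liftsComm.all okW = true := by decide +kernel
theorem liftsInv_ok : liftsInv.all okW = true := by decide +kernel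

/-- An involution commuting with `t` satisfying the relation is a listed candidate. -/
theorem exists_cand {cc : List Nat} (hcc : okW cc = true) {y : G} (h2 : y * y = 1) (hne : y ≠ 1)
    (ha : Commute y R.A) (hc : Commute y (gv R cc)) (ht : Commute y R.T) (hr : SevenRel R y) :
    ∃ w ∈ liftsComm, ∃ q, q < 512 ∧ gv R (w ++ [14 + q]) = y ∧ condT cc (w ++ [14 + q]) = true := by
  set g : cA R := ⟨y, mem_cA R ha⟩ with hg
  have e2 : sigG R g * sigG R g = 1 := by
    rw [← map_mul, show g * g = 1 from Subtype.ext h2, map_one]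
  have eT := sigG_comm R (g := g) (h := ⟨R.T, mem_cA R (gT R ▸ gv_mem R _)⟩) ht
  rw [sigG_gv R (g := ⟨R.T, _⟩) (gT R).symm, sigW_pT] at eT
  obtain ⟨w, hw, hwe⟩ := mem_liftsComm (sigG_even R g) e2 eT
  obtain ⟨q, hq, hy⟩ := exists_lift R hwe
  have hv := okW_lift liftsComm_ok hw hq
  change y = _ at hy
  subst hy
  refine ⟨w, hw, q, hq, rfl, ?_⟩
  simp only [condT, Bool.and_eq_true, Bool.not_eq_true']
  refine ⟨(eqB_iff R (okW_append hv hv) rfl).2 (by rw [gv_append, gv_nil, h2]),
    (eqB_iff R (okW_append hv hcc) (okW_append hcc hv)).2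
      (by rw [gv_append R (w ++ [14 + q]) cc, gv_append R cc]; exact hc.eq),
    (eqB_iff R (okW_append hv rfl) (okW_append rfl hv)).2
      (by rw [gv_append R _ [5], gv_append R [5] _, ← gT]; exact ht.eq),
    relB_of R hv h2 hr, ?_⟩
  rw [Bool.eq_false_iff]
  exact fun h => hne (((eqB_iff R hv rfl).1 h).trans (gv_nil R))

/-- The word of the twin element. -/
def twinW : List Nat := [193]

theorem twin_check : liftsComm.all (fun w => allFrom (fun q =>
    !(condT [2, 1, 2] (w ++ [14 + q])) || eqB (w ++ [14 + q]) twinW) 0 512) = true := by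
  decide +kernel

theorem twin_eq {y : G} (h : TwinElt R y) : y = gv R twinW := by
  have hc : gv R [2, 1, 2] = R.D⁻¹ * R.C * R.D := by
    rw [gCd_code, gQv]; exact gv_eq R (by decide) (by decide) (by decide +kernel)
  obtain ⟨w, hw, q, hq, rfl, hcond⟩ := exists_cand R (cc := [2, 1, 2]) (by decide) h.sq h.ne h.y_a
    (by rw [hc]; exact h.y_cd) h.y_t h.rel
  have := (allFrom_iff _ _ _).1 (List.all_eq_true.1 twin_check w hw) q (Nat.zero_le _) (by omega)
  rw [hcond, Bool.not_true, Bool.false_or] at this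
  exact (eqB_iff R (okW_lift liftsComm_ok hw hq) (by decide)).1 this

theorem five_check : allFrom (fun q =>
    !(eqB [14 + q, 14 + q, 14 + q, 14 + q, 14 + q] []) || Nat.beq q 0) 0 512 = true := by
  decide +kernel

/-- The words of the eight elements of `⟨c, c ^ d⟩`. -/
def d8Words : List (List Nat) := [[], [1], [2, 1, 2], [1, 2, 1, 2], [1, 2, 1, 2, 1, 2, 1, 2],
  [2, 1, 2, 1, 2, 1, 2], [1, 2, 1, 2, 1], [2, 1, 2, 1]]

theorem st_check : allFrom (fun q =>
    !(eqB [14 + q, 4] [4, 14 + q] && eqB [14 + q, 5] [5, 14 + q]) ||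
      d8Words.any (eqB [14 + q])) 0 512 = true := by
  decide +kernel

theorem localFacts : LocalFacts R where
  twin_unique y y' hy hy' := (twin_eq R hy).trans (twin_eq R hy').symm
  no_five g ha ht h5 := by
    set g' : cA R := ⟨g, mem_cA R ha⟩
    have e5 : sigG R g' ^ 5 = 1 := by rw [← map_pow, show g' ^ 5 = 1 from Subtype.ext h5, map_one]
    have eT := sigG_comm R (g := g') (h := ⟨R.T, mem_cA R (gT R ▸ gv_mem R _)⟩) ht
    rw [sigG_gv R (g := ⟨R.T, _⟩) (gT R).symm, sigW_pT] at eT
    obtain ⟨q, hq, he⟩ := sigG_code R g' (eq_one_of_five e5 eT)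
    change g = gv R [14 + q] at he
    subst he
    have := (allFrom_iff _ _ _).1 five_check q (Nat.zero_le _) (by omega)
    have hcond : eqB [14 + q, 14 + q, 14 + q, 14 + q, 14 + q] [] = true :=
      (eqB_iff R (okW_iff.2 (by simp; omega)) rfl).2 (by
        rw [gv_cons R, gv_cons R _ [_, _, _], gv_cons R _ [_, _], gv_cons R _ [_], gv_nil, ← h5]
        simp only [pow_succ, pow_zero, one_mul, mul_assoc])
    rw [hcond, Bool.not_true, Bool.false_or] at this
    rw [Nat.eq_of_beq_eq_true this]
    exact gQv_zero R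
  cent_st g ha hs ht := by
    set g' : cA R := ⟨g, mem_cA R ha⟩
    have eS := sigG_comm R (g := g') (h := ⟨R.S, mem_cA R (gS R ▸ gv_mem R _)⟩) hs
    have eT := sigG_comm R (g := g') (h := ⟨R.T, mem_cA R (gT R ▸ gv_mem R _)⟩) ht
    rw [sigG_gv R (g := ⟨R.S, _⟩) (gS R).symm, sigW_pS] at eS
    rw [sigG_gv R (g := ⟨R.T, _⟩) (gT R).symm, sigW_pT] at eT
    obtain ⟨q, hq, he⟩ := sigG_code R g' (eq_one_of_st (sigG_even R g') eS eT)
    change g = gv R [14 + q] at he
    subst he
    have := (allFrom_iff _ _ _).1 st_check q (Nat.zero_le _) (by omega)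
    have hok := okW_code hq
    have hS : eqB [14 + q, 4] [4, 14 + q] = true :=
      (eqB_iff R (okW_iff.2 (by simp; omega)) (okW_iff.2 (by simp; omega))).2
        (show gv R ([14 + q] ++ [4]) = gv R ([4] ++ [14 + q]) by
          rw [gv_append, gv_append, ← gS]; exact hs.eq)
    have hT : eqB [14 + q, 5] [5, 14 + q] = true :=
      (eqB_iff R (okW_iff.2 (by simp; omega)) (okW_iff.2 (by simp; omega))).2
        (show gv R ([14 + q] ++ [5]) = gv R ([5] ++ [14 + q]) by
          rw [gv_append, gv_append, ← gT]; exact ht.eq)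
    rw [hS, hT,
      Bool.and_self, Bool.not_true, Bool.false_or, List.any_eq_true] at this
    obtain ⟨v, hv, hve⟩ := this
    rw [(eqB_iff R hok ((show ∀ v ∈ d8Words, okW v = true by decide) v hv)).1 hve]
    set H := Subgroup.closure ({R.C, R.D⁻¹ * R.C * R.D} : Set G)
    have hC : gv R [1] ∈ H := gC R ▸ Subgroup.subset_closure (Or.inl rfl)
    have hD : gv R [2, 1, 2] ∈ H := by
      rw [show gv R [2, 1, 2] = R.D⁻¹ * R.C * R.D by
        rw [gCd_code, gQv]; exact gv_eq R (by decide) (by decide) (by decide +kernel)]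
      exact Subgroup.subset_closure (Or.inr rfl)
    simp only [d8Words, List.mem_cons, List.not_mem_nil, or_false] at hv
    rcases hv with rfl | rfl | rfl | rfl | rfl | rfl | rfl | rfl
    · rw [gv_nil]; exact one_mem _
    · exact hC
    · exact hD
    · rw [show ([1, 2, 1, 2] : List Nat) = [1] ++ [2, 1, 2] from rfl, gv_append]; exact mul_mem hC hD
    · rw [show ([1, 2, 1, 2, 1, 2, 1, 2] : List Nat) = [1] ++ [2, 1, 2] ++ [1] ++ [2, 1, 2] from rfl,
        gv_append, gv_append, gv_append]
      exact mul_mem (mul_mem (mul_mem hC hD) hC) hD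
    · rw [show ([2, 1, 2, 1, 2, 1, 2] : List Nat) = [2, 1, 2] ++ [1] ++ [2, 1, 2] from rfl, gv_append,
        gv_append]
      exact mul_mem (mul_mem hD hC) hD
    · rw [show ([1, 2, 1, 2, 1] : List Nat) = [1] ++ [2, 1, 2] ++ [1] from rfl, gv_append, gv_append]
      exact mul_mem (mul_mem hC hD) hC
    · rw [show ([2, 1, 2, 1] : List Nat) = [2, 1, 2] ++ [1] from rfl, gv_append]; exact mul_mem hD hC

/-- The class of `c` in the centraliser: code, parent, letter. -/
def orbitC : List (Nat × Nat × Nat) := [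
  (1, 0, 0), (2, 0, 2), (258, 1, 1), (4, 1, 3), (433, 1, 6), (177, 1, 13), (257, 2, 2), (260, 2, 3),
  (8, 3, 4), (438, 3, 6), (16, 3, 11), (182, 3, 13), (181, 4, 2), (234, 4, 4), (318, 4, 11), (437, 5, 2),
  (490, 5, 4), (62, 5, 11), (264, 7, 4), (272, 7, 11), (32, 8, 3), (64, 8, 4), (165, 8, 6), (255, 8, 12),
  (421, 8, 13), (434, 9, 2), (481, 9, 4), (45, 9, 11), (128, 10, 5), (188, 10, 6), (444, 10, 13), (178, 11, 2),
  (225, 11, 4), (301, 11, 11), (436, 12, 3), (482, 12, 4), (180, 12, 6), (46, 12, 11), (195, 13, 3), (397, 13, 4),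
  (101, 13, 12), (110, 14, 3), (470, 14, 5), (89, 14, 12), (226, 15, 4), (302, 15, 11), (451, 16, 3), (141, 16, 4),
  (357, 16, 12), (366, 17, 3), (214, 17, 5), (345, 17, 12), (288, 18, 3), (320, 18, 4), (511, 18, 12), (384, 19, 5),
  (244, 20, 6), (500, 20, 13), (405, 21, 6), (149, 21, 13), (185, 22, 2), (230, 22, 4), (53, 22, 5), (174, 22, 11),
  (309, 23, 13), (441, 24, 2), (486, 24, 4), (430, 24, 11), (435, 25, 3), (489, 25, 4), (61, 25, 11), (462, 26, 4),
  (299, 26, 6), (409, 26, 12), (43, 26, 13), (341, 27, 5), (122, 27, 12), (331, 28, 6), (75, 28, 13), (419, 29, 2),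
  (163, 30, 2), (179, 31, 3), (233, 31, 4), (317, 31, 11), (206, 32, 4), (153, 32, 12), (85, 33, 5), (378, 33, 12),
  (227, 34, 4), (303, 34, 11), (205, 35, 4), (411, 35, 6), (410, 35, 12), (483, 36, 4), (47, 36, 11), (342, 37, 5),
  (377, 37, 12), (307, 38, 4), (476, 38, 5), (27, 38, 12), (106, 41, 2), (169, 41, 5), (350, 41, 11), (113, 41, 12),
  (461, 44, 4), (155, 44, 6), (154, 44, 12), (86, 45, 5), (121, 45, 12), (51, 46, 4), (220, 46, 5), (283, 46, 12),
  (362, 49, 2), (425, 49, 5), (94, 49, 11), (369, 49, 12), (39, 56, 11), (295, 57, 11), (334, 58, 2), (29, 58, 4),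
  (78, 59, 2), (285, 59, 4), (150, 60, 3), (426, 60, 4), (241, 60, 5), (167, 60, 6), (58, 60, 11), (197, 61, 4),
  (457, 61, 5), (158, 61, 12), (242, 62, 4), (465, 62, 11), (118, 63, 5), (361, 63, 12), (497, 64, 2), (498, 64, 4),
  (209, 64, 11), (406, 65, 3), (170, 65, 4), (423, 65, 6), (314, 65, 11), (453, 66, 4), (201, 66, 5), (414, 66, 12),
  (374, 67, 5), (105, 67, 12), (488, 68, 4), (60, 68, 11), (454, 69, 3), (398, 69, 4), (102, 69, 12), (107, 70, 3),
  (213, 70, 5), (346, 70, 6), (90, 70, 12), (124, 71, 6), (380, 71, 13), (492, 72, 2), (83, 72, 5), (327, 72, 11),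
  (339, 73, 13), (236, 74, 2), (71, 74, 11), (147, 77, 2), (99, 77, 4), (271, 77, 11), (403, 78, 2), (355, 78, 4),
  (15, 78, 11), (232, 81, 4), (316, 81, 11), (198, 82, 3), (142, 82, 4), (358, 82, 12), (363, 83, 3), (469, 83, 5),
  (460, 88, 4), (87, 89, 5), (120, 89, 12), (204, 90, 6), (347, 91, 2), (343, 91, 4), (376, 91, 11), (77, 97, 3),
  (248, 97, 4), (504, 97, 13), (135, 99, 11), (157, 100, 4), (173, 100, 5), (373, 100, 6), (117, 100, 12), (186, 101, 11),
  (313, 102, 5), (139, 102, 6), (395, 102, 13), (218, 103, 4), (91, 105, 2), (333, 109, 3), (391, 111, 11), (413, 112, 4),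
  (429, 112, 5), (442, 113, 11), (57, 114, 5), (474, 115, 4), (23, 116, 5), (279, 117, 5), (310, 118, 3), (55, 118, 6),
  (286, 118, 11), (54, 120, 3), (311, 120, 6), (30, 120, 11), (422, 122, 5), (496, 122, 6), (109, 122, 11), (211, 123, 3),
  (370, 123, 5), (427, 123, 6), (202, 124, 4), (407, 124, 6), (440, 125, 2), (484, 125, 4), (428, 125, 11), (108, 126, 3),
  (210, 126, 5), (348, 126, 6), (349, 126, 12), (166, 134, 3), (458, 134, 4), (151, 134, 6), (240, 137, 6), (365, 137, 11),
  (467, 138, 3), (114, 138, 5), (171, 138, 6), (184, 139, 2), (228, 139, 4), (172, 139, 11), (364, 140, 3), (466, 140, 5),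
  (92, 140, 6), (93, 140, 12), (455, 146, 3), (399, 146, 4), (103, 146, 12), (212, 147, 5), (217, 148, 5), (229, 148, 11),
  (156, 151, 4), (372, 151, 6), (335, 151, 11), (116, 151, 12), (199, 169, 3), (143, 169, 4), (359, 169, 12), (468, 170, 5),
  (473, 171, 5), (485, 171, 11), (412, 174, 4), (79, 174, 11), (459, 213, 4), (59, 214, 3), (371, 214, 6), (203, 215, 2),
  (31, 219, 4), (315, 220, 11), (287, 229, 4), (115, 231, 6), (216, 242, 5), (472, 249, 11)]

/-- The codes of the class of `c`. -/
def orbitCodes : List Nat := orbitC.map Prod.fst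

theorem orbit_closed : orbitCodes.all (fun r => allFrom (fun k =>
    orbitCodes.any (Nat.beq (phiQ k r))) 0 14) = true := by
  decide +kernel

theorem orbit_path : allFrom (fun i => Nat.beq i 0 && Nat.beq (orbitC.getD i (0, 0, 0)).1 1 ||
    (Nat.blt (orbitC.getD i (0, 0, 0)).2.1 i && (Nat.blt (orbitC.getD i (0, 0, 0)).2.2 14 &&
      Nat.beq (phiQ (orbitC.getD i (0, 0, 0)).2.2
        (orbitC.getD (orbitC.getD i (0, 0, 0)).2.1 (0, 0, 0)).1) (orbitC.getD i (0, 0, 0)).1))) 0 270 = true := by
  decide +kernel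

theorem orbit_len : orbitCodes.length = 270 ∧ orbitCodes.all (fun r => Nat.blt r 512) = true := by
  decide +kernel

theorem orbit_invol : allFrom (fun q => !(Nat.beq (mulQ q q) 0) ||
    (Nat.beq q 0 || (Nat.beq q 256 || orbitCodes.any (Nat.beq q)))) 0 512 = true := by
  decide +kernel

/-- Every listed code is a conjugate of `c`. -/
theorem orbit_conj : ∀ r ∈ orbitCodes, ∃ h : G, Commute h R.A ∧ h⁻¹ * R.C * h = gQv R r := by
  have key : ∀ i, i < 270 → ∃ h : G, Commute h R.A ∧
      h⁻¹ * R.C * h = gQv R (orbitC.getD i (0, 0, 0)).1 := by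
    intro i
    induction i using Nat.strong_induction_on with
    | _ i ih =>
      intro hi
      have h := (allFrom_iff _ _ _).1 orbit_path i (Nat.zero_le _) (by omega)
      simp only [Bool.or_eq_true, Bool.and_eq_true, blt_iff] at h
      rcases h with ⟨-, h1⟩ | ⟨hp, hk, he⟩
      · refine ⟨1, Commute.one_left _, ?_⟩
        rw [Nat.eq_of_beq_eq_true h1, ← gC_code]; group
      · obtain ⟨h, hh, e⟩ := ih _ hp (by omega)
        refine ⟨h * gv R [(orbitC.getD i (0, 0, 0)).2.2], hh.mul_left (gv_mem R _), ?_⟩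
        rw [← Nat.eq_of_beq_eq_true he, ← gQv_conj_letter R hk (blt_iff.1 (List.all_eq_true.1 orbit_len.2 _
          (List.mem_map_of_mem (by
            rw [List.getD_eq_getElem?_getD, List.getElem?_eq_getElem
              (show _ < orbitC.length by have := orbit_len.1; simp [orbitCodes] at this; omega)]
            exact List.getElem_mem _)))), ← e]
        group
  intro r hr
  obtain ⟨x, hx, rfl⟩ := List.mem_map.1 hr
  obtain ⟨i, hi, rfl⟩ := List.getElem_of_mem hx
  obtain ⟨h, h1, h2⟩ := key i (by have := orbit_len.1; simp [orbitCodes] at this; omega)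
  refine ⟨h, h1, ?_⟩
  rw [h2, List.getD_eq_getElem?_getD, List.getElem?_eq_getElem hi]
  rfl

theorem orbit_conj_mem {g : G} (hg : Commute g R.A) : ∃ r ∈ orbitCodes, g⁻¹ * R.C * g = gQv R r := by
  have key : ∀ w : List Nat, (∀ k ∈ w, k < 14) → ∀ r ∈ orbitCodes,
      ∃ r' ∈ orbitCodes, (gv R w)⁻¹ * gQv R r * gv R w = gQv R r' := by
    intro w
    induction w with
    | nil => exact fun _ r hr => ⟨r, hr, by simp [gv_nil]⟩
    | cons k w ih =>
      intro hw r hr
      have hk := hw k List.mem_cons_self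
      have hr' := blt_iff.1 (List.all_eq_true.1 orbit_len.2 r hr)
      have hin : phiQ k r ∈ orbitCodes := by
        obtain ⟨x, hx, he⟩ := List.any_eq_true.1 ((allFrom_iff _ _ _).1
          (List.all_eq_true.1 orbit_closed r hr) k (Nat.zero_le _) (by omega))
        rwa [Nat.eq_of_beq_eq_true he]
      obtain ⟨r', h1, h2⟩ := ih (fun j hj => hw j (List.mem_cons_of_mem _ hj)) _ hin
      refine ⟨r', h1, ?_⟩
      rw [← h2, ← gQv_conj_letter R hk hr', gv_cons]
      group
  obtain ⟨w, hw, rfl⟩ := exists_gv14 R hg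
  rw [gC_code]
  exact key w hw 1 (by decide +kernel)

/-- The common centraliser of two elements. -/
def cen2 (u v : G) : Subgroup G :=
  Subgroup.centralizer ({u} : Set G) ⊓ Subgroup.centralizer ({v} : Set G)

theorem mem_cen2 {u v g : G} : g ∈ cen2 u v ↔ Commute g u ∧ Commute g v := by
  rw [cen2, Subgroup.mem_inf, Subgroup.mem_centralizer_singleton_iff,
    Subgroup.mem_centralizer_singleton_iff]
  rfl

theorem card_cA : Nat.card (cA R) = 92897280 := by
  rw [cA, CData.A, ← R.range, ← Subgroup.index_ker, R.ker, Subgroup.index_ker, card_toTh_range]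

theorem card_cen2_ge [Finite G] : 344064 ≤ Nat.card (cen2 R.A R.C) := by
  classical
  have hmem : ∀ g : cA R, ∃ i : Fin 270, g.1⁻¹ * R.C * g.1 = gQv R (orbitCodes.getD i.val 0) := by
    intro g
    obtain ⟨r, hr, he⟩ := orbit_conj_mem R (Subgroup.mem_centralizer_singleton_iff.1 g.2)
    obtain ⟨i, hi, rfl⟩ := List.getElem_of_mem hr
    exact ⟨⟨i, orbit_len.1 ▸ hi⟩, by rw [he, List.getD_eq_getElem?_getD, List.getElem?_eq_getElem hi]; rfl⟩
  choose idx hidx using hmem
  let rep : Fin 270 → cA R := fun i => if h : ∃ g, idx g = i then h.choose else 1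
  have hrep : ∀ g, idx (rep (idx g)) = idx g := fun g => by
    have h : ∃ g', idx g' = idx g := ⟨g, rfl⟩
    simp only [rep, dif_pos h]
    exact h.choose_spec
  let F : cA R → Fin 270 × cen2 R.A R.C := fun g => (idx g, ⟨g.1 * (rep (idx g)).1⁻¹, by
    rw [mem_cen2]
    refine ⟨Commute.mul_left (Subgroup.mem_centralizer_singleton_iff.1 g.2)
      (Commute.inv_left (Subgroup.mem_centralizer_singleton_iff.1 (rep (idx g)).2)), ?_⟩
    have e := (hidx g).trans ((congrArg (fun i : Fin 270 => gQv R (orbitCodes.getD i.val 0)) (hrep g).symm).trans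
      (hidx (rep (idx g))).symm)
    generalize g.1 = u, (rep (idx g)).1 = v at e ⊢
    calc u * v⁻¹ * R.C = u * (v⁻¹ * R.C * v) * v⁻¹ := by group
      _ = u * (u⁻¹ * R.C * u) * v⁻¹ := by rw [e]
      _ = R.C * (u * v⁻¹) := by group⟩)
  have hF : Function.Injective F := by
    intro g h e
    have e1 : idx g = idx h := congrArg Prod.fst e
    have e2 : g.1 * (rep (idx g)).1⁻¹ = h.1 * (rep (idx h)).1⁻¹ :=
      congrArg (fun p : Fin 270 × cen2 R.A R.C => p.2.1) e
    rw [e1] at e2
    exact Subtype.ext (mul_right_cancel e2)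
  have h := Nat.card_le_card_of_injective F hF
  rw [card_cA, Nat.card_prod, Nat.card_fin] at h
  omega

/-- The centraliser in `A₉` of an involution has order at most 480. -/
theorem nine_cent {π : Equiv.Perm (Fin 9)} (h2 : π * π = 1) (hne : π ≠ 1) (hev : Equiv.Perm.sign π = 1) :
    Nat.card (Subgroup.centralizer ({π} : Set (Equiv.Perm (Fin 9))) ⊓ alternatingGroup (Fin 9) :
      Subgroup (Equiv.Perm (Fin 9))) ≤ 480 := by
  classical
  have ho : orderOf π = 2 := orderOf_eq_prime (by rw [pow_two, h2]) hne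
  obtain ⟨n, hn⟩ := Equiv.Perm.cycleType_prime_order (σ := π) (ho.symm ▸ Nat.prime_two)
  rw [ho] at hn
  set Z := Subgroup.centralizer ({π} : Set (Equiv.Perm (Fin 9)))
  have hcard : Nat.card Z ≤ 960 := by
    rw [Equiv.Perm.nat_card_centralizer, hn]
    have hs : (n + 1) * 2 ≤ 9 := by
      have h := π.support.card_le_univ
      rw [← π.sum_cycleType, hn] at h
      simp at h
      omega
    have hodd : n % 2 = 1 := by
      have h := Equiv.Perm.sign_of_cycleType π
      rw [hev, hn] at h
      by_contra hc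
      have hnn : n = 0 ∨ n = 2 := by omega
      rcases hnn with rfl | rfl <;> rw [Multiset.sum_replicate, Multiset.card_replicate] at h <;>
        exact absurd h (by decide)
    have hnn : n = 1 ∨ n = 3 := by omega
    rcases hnn with rfl | rfl <;> simp [Nat.factorial]
  obtain ⟨x, hx⟩ : ∃ x, π x ≠ x := by
    by_contra h
    push Not at h
    exact hne (Equiv.ext h)
  have hπ : π (π x) = x := Equiv.congr_fun h2 x
  have hsw : Equiv.swap x (π x) ∈ Z := by
    rw [Subgroup.mem_centralizer_singleton_iff]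
    have e := Equiv.swap_mul_eq_mul_swap π x (π x)
    rw [show π⁻¹ = π from inv_eq_of_mul_eq_one_right h2, hπ, Equiv.swap_comm (π x) x] at e
    exact e
  set Y := Z ⊓ alternatingGroup (Fin 9)
  have hsgn : Equiv.Perm.sign (Equiv.swap x (π x)) = -1 := Equiv.Perm.sign_swap (Ne.symm hx)
  let F : Bool × Y → Z := fun p => cond p.1 ⟨Equiv.swap x (π x) * p.2.1, mul_mem hsw p.2.2.1⟩ ⟨p.2.1, p.2.2.1⟩
  have hF : Function.Injective F := by
    rintro ⟨b, y⟩ ⟨b', y'⟩ e
    have e' := congrArg Subtype.val e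
    cases b <;> cases b' <;> simp only [F, cond_true, cond_false] at e'
    · exact Prod.ext rfl (Subtype.ext e')
    · have := congrArg Equiv.Perm.sign e'
      rw [map_mul, hsgn, Equiv.Perm.mem_alternatingGroup.1 y.2.2, Equiv.Perm.mem_alternatingGroup.1 y'.2.2] at this
      exact absurd this (by decide)
    · have := congrArg Equiv.Perm.sign e'
      rw [map_mul, hsgn, Equiv.Perm.mem_alternatingGroup.1 y.2.2, Equiv.Perm.mem_alternatingGroup.1 y'.2.2] at this
      exact absurd this (by decide)
    · exact Prod.ext rfl (Subtype.ext (mul_left_cancel e'))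
  have h := Nat.card_le_card_of_injective F hF
  rw [Nat.card_prod, Nat.card_eq_fintype_card (α := Bool), Fintype.card_bool] at h
  omega

/-- An involution with a centraliser as large as that of `c` is a conjugate of `c`. -/
theorem exists_orbit_code [Finite G] {y : G} (h2 : y * y = 1) (h1 : y ≠ 1) (hA : y ≠ R.A)
    (hya : Commute y R.A) (hbig : Nat.card (cen2 R.A R.C) ≤ Nat.card (cen2 R.A y)) :
    ∃ q ∈ orbitCodes, y = gQv R q := by
  classical
  set g : cA R := ⟨y, mem_cA R hya⟩
  have hle : cen2 R.A y ≤ cA R := inf_le_left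
  have hs : sigG R g = 1 := by
    by_contra hne
    have e2 : sigG R g * sigG R g = 1 := by
      rw [← map_mul, show g * g = 1 from Subtype.ext h2, map_one]
    let ψ := (sigG R).comp (Subgroup.inclusion hle)
    have hrange : ψ.range ≤ Subgroup.centralizer ({sigG R g} : Set (Equiv.Perm (Fin 9))) ⊓
        alternatingGroup (Fin 9) := by
      rintro _ ⟨k, rfl⟩
      refine ⟨Subgroup.mem_centralizer_singleton_iff.2 ?_, Equiv.Perm.mem_alternatingGroup.2 (sigG_even R _)⟩
      exact sigG_comm R (g := Subgroup.inclusion hle k) (h := g) (mem_cen2.1 k.2).2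
    have hker : Nat.card ψ.ker ≤ 512 := by
      have hmem : ∀ k : ψ.ker, ∃ q : Fin 512, k.1.1 = gQv R q.val := fun k => by
        obtain ⟨q, hq, he⟩ := sigG_code R (Subgroup.inclusion hle k.1) (MonoidHom.mem_ker.1 k.2)
        exact ⟨⟨q, hq⟩, he⟩
      choose F hF using hmem
      have hinj : Function.Injective F := fun a b e =>
        Subtype.ext (Subtype.ext (by rw [hF a, hF b, e]))
      exact (Nat.card_le_card_of_injective F hinj).trans (by simp)
    have h := ψ.ker.card_mul_index
    rw [Subgroup.index_ker] at h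
    have hr := (Subgroup.card_le_of_le hrange).trans (nine_cent e2 hne (sigG_even R g))
    have := card_cen2_ge R
    have := Nat.mul_le_mul hker hr
    omega
  obtain ⟨q, hq, he⟩ := sigG_code R g hs
  change y = gQv R q at he
  subst he
  have hsq : mulQ q q = 0 := gQv_inj R (mulQ_lt hq hq) (by norm_num) (by rw [← gQv_mul R hq hq, h2, gQv_zero])
  have h := (allFrom_iff _ _ _).1 orbit_invol q (Nat.zero_le _) (by omega)
  rw [hsq, Nat.beq_refl, Bool.not_true, Bool.false_or] at h
  simp only [Bool.or_eq_true, List.any_eq_true] at h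
  rcases h with h | h | ⟨r, hr, he⟩
  · rw [Nat.eq_of_beq_eq_true h, gQv_zero] at h1; exact absurd rfl h1
  · rw [Nat.eq_of_beq_eq_true h, ← gA_code] at hA; exact absurd rfl hA
  · exact ⟨r, hr, by rw [Nat.eq_of_beq_eq_true he]⟩

end Cfsg.Agent.ThRel.Model
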