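import Cfsg.Agent.CosetCert.Basic

/-! Generated: a word leading to each of the 120 cosets. -/

set_option autoImplicit false
set_option maxRecDepth 100000

namespace Cfsg.Agent.ThRel.Model

/-- The representatives. -/
def repWord : List (List (Fin 7 × Bool)) := [
  [],
  [(6, true)],
  [(6, true), (2, true)],
  [(6, true), (4, true)],
  [(6, true), (4, false)],
  [(6, true), (2, true), (3, true)],
  [(6, true), (2, true), (4, true)],
  [(6, true), (2, true), (4, false)],
  [(6, true), (2, true), (6, true)],
  [(6, true), (4, true), (4, true)],
  [(6, true), (4, true), (5, false)],
  [(6, true), (4, false), (5, true)],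
  [(6, true), (4, false), (5, false)],
  [(6, true), (2, true), (3, true), (4, true)],
  [(6, true), (2, true), (3, true), (4, false)],
  [(6, true), (2, true), (3, true), (6, true)],
  [(6, true), (2, true), (4, true), (3, true)],
  [(6, true), (2, true), (4, true), (4, true)],
  [(6, true), (2, true), (4, true), (5, false)],
  [(6, true), (2, true), (4, true), (6, true)],
  [(6, true), (2, true), (4, false), (3, true)],
  [(6, true), (2, true), (4, false), (5, true)],
  [(6, true), (2, true), (4, false), (5, false)],
  [(6, true), (2, true), (4, false), (6, true)],
  [(6, true), (2, true), (6, true), (4, true)],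
  [(6, true), (2, true), (6, true), (4, false)],
  [(6, true), (2, true), (3, true), (4, true), (3, true)],
  [(6, true), (2, true), (3, true), (4, true), (4, true)],
  [(6, true), (2, true), (3, true), (4, true), (5, false)],
  [(6, true), (2, true), (3, true), (4, true), (6, true)],
  [(6, true), (2, true), (3, true), (4, false), (3, true)],
  [(6, true), (2, true), (3, true), (4, false), (5, true)],
  [(6, true), (2, true), (3, true), (4, false), (5, false)],
  [(6, true), (2, true), (3, true), (4, false), (6, true)],
  [(6, true), (2, true), (3, true), (6, true), (4, true)],
  [(6, true), (2, true), (3, true), (6, true), (4, false)],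
  [(6, true), (2, true), (4, true), (3, true), (4, true)],
  [(6, true), (2, true), (4, true), (3, true), (4, false)],
  [(6, true), (2, true), (4, true), (3, true), (5, true)],
  [(6, true), (2, true), (4, true), (3, true), (5, false)],
  [(6, true), (2, true), (4, true), (3, true), (6, true)],
  [(6, true), (2, true), (4, true), (4, true), (6, true)],
  [(6, true), (2, true), (4, true), (6, true), (5, true)],
  [(6, true), (2, true), (4, true), (6, true), (2, true)],
  [(6, true), (2, true), (4, true), (6, true), (4, true)],
  [(6, true), (2, true), (4, true), (6, true), (4, false)],
  [(6, true), (2, true), (4, false), (3, true), (4, true)],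
  [(6, true), (2, true), (4, false), (3, true), (5, true)],
  [(6, true), (2, true), (4, false), (3, true), (5, false)],
  [(6, true), (2, true), (4, false), (3, true), (6, true)],
  [(6, true), (2, true), (4, false), (5, true), (6, true)],
  [(6, true), (2, true), (4, false), (6, true), (5, true)],
  [(6, true), (2, true), (6, true), (4, true), (6, true)],
  [(6, true), (2, true), (6, true), (4, true), (3, true)],
  [(6, true), (2, true), (6, true), (4, true), (4, true)],
  [(6, true), (2, true), (6, true), (4, true), (5, false)],
  [(6, true), (2, true), (6, true), (4, false), (3, true)],
  [(6, true), (2, true), (6, true), (4, false), (5, true)],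
  [(6, true), (2, true), (6, true), (4, false), (5, false)],
  [(6, true), (2, true), (3, true), (4, true), (3, true), (2, true)],
  [(6, true), (2, true), (3, true), (4, true), (3, true), (4, false)],
  [(6, true), (2, true), (3, true), (4, true), (3, true), (5, true)],
  [(6, true), (2, true), (3, true), (4, true), (4, true), (6, true)],
  [(6, true), (2, true), (3, true), (4, true), (6, true), (2, true)],
  [(6, true), (2, true), (3, true), (4, true), (6, true), (4, true)],
  [(6, true), (2, true), (3, true), (4, true), (6, true), (4, false)],
  [(6, true), (2, true), (3, true), (4, false), (3, true), (2, true)],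
  [(6, true), (2, true), (3, true), (4, false), (3, true), (4, true)],
  [(6, true), (2, true), (3, true), (4, false), (3, true), (4, false)],
  [(6, true), (2, true), (3, true), (4, false), (3, true), (5, false)],
  [(6, true), (2, true), (3, true), (6, true), (4, true), (6, true)],
  [(6, true), (2, true), (3, true), (4, false), (6, true), (4, true)],
  [(6, true), (2, true), (3, true), (6, true), (4, true), (3, true)],
  [(6, true), (2, true), (3, true), (6, true), (4, true), (4, true)],
  [(6, true), (2, true), (3, true), (6, true), (4, true), (5, false)],
  [(6, true), (2, true), (3, true), (6, true), (4, false), (3, true)],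
  [(6, true), (2, true), (3, true), (6, true), (4, false), (5, true)],
  [(6, true), (2, true), (3, true), (6, true), (4, false), (5, false)],
  [(6, true), (2, true), (4, true), (3, true), (4, true), (3, true)],
  [(6, true), (2, true), (4, true), (3, true), (4, true), (4, true)],
  [(6, true), (2, true), (4, true), (3, true), (4, true), (5, true)],
  [(6, true), (2, true), (4, true), (3, true), (4, true), (5, false)],
  [(6, true), (2, true), (4, true), (3, true), (4, true), (6, true)],
  [(6, true), (2, true), (4, true), (3, true), (4, false), (5, true)],
  [(6, true), (2, true), (4, true), (3, true), (4, false), (6, true)],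
  [(6, true), (2, true), (4, true), (3, true), (5, true), (4, false)],
  [(6, true), (2, true), (4, true), (3, true), (5, true), (6, true)],
  [(6, true), (2, true), (4, true), (3, true), (5, false), (4, false)],
  [(6, true), (2, true), (4, true), (3, true), (6, true), (5, true)],
  [(6, true), (2, true), (4, true), (3, true), (6, true), (2, true)],
  [(6, true), (2, true), (4, true), (3, true), (6, true), (4, true)],
  [(6, true), (2, true), (4, true), (3, true), (6, true), (4, false)],
  [(6, true), (2, true), (4, true), (4, true), (6, true), (4, true)],
  [(6, true), (2, true), (4, true), (4, true), (6, true), (4, false)],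
  [(6, true), (2, true), (4, true), (6, true), (2, true), (5, true)],
  [(6, true), (2, true), (4, true), (6, true), (5, true), (4, true)],
  [(6, true), (2, true), (4, true), (6, true), (5, true), (4, false)],
  [(6, true), (2, true), (4, true), (6, true), (2, true), (3, true)],
  [(6, true), (2, true), (4, true), (6, true), (2, true), (4, false)],
  [(6, true), (2, true), (4, true), (6, true), (4, true), (4, true)],
  [(6, true), (2, true), (4, true), (6, true), (4, true), (5, true)],
  [(6, true), (2, true), (4, true), (6, true), (4, false), (4, false)],
  [(6, true), (2, true), (4, true), (6, true), (4, false), (5, true)],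
  [(6, true), (2, true), (6, true), (4, true), (6, true), (2, true)],
  [(6, true), (2, true), (4, false), (3, true), (4, true), (5, false)],
  [(6, true), (2, true), (4, false), (3, true), (5, true), (4, true)],
  [(6, true), (2, true), (4, false), (3, true), (5, true), (4, false)],
  [(6, true), (2, true), (4, false), (3, true), (6, true), (4, false)],
  [(6, true), (2, true), (6, true), (4, true), (6, true), (4, false)],
  [(6, true), (2, true), (4, false), (3, true), (6, true), (2, true)],
  [(6, true), (2, true), (6, true), (4, false), (3, true), (4, true)],
  [(6, true), (2, true), (3, true), (4, true), (4, true), (6, true), (4, false)],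
  [(6, true), (2, true), (3, true), (4, true), (6, true), (2, true), (3, true)],
  [(6, true), (2, true), (3, true), (4, true), (6, true), (2, true), (4, false)],
  [(6, true), (2, true), (3, true), (4, true), (6, true), (4, true), (5, true)],
  [(6, true), (2, true), (3, true), (4, true), (6, true), (4, true), (5, false)],
  [(6, true), (2, true), (3, true), (4, false), (3, true), (4, false), (3, true)],
  [(6, true), (2, true), (3, true), (4, false), (3, true), (4, false), (5, false)],
  [(6, true), (2, true), (3, true), (6, true), (4, false), (3, true), (5, true)],
  [(6, true), (2, true), (4, true), (3, true), (4, true), (6, true), (5, true)]]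

end Cfsg.Agent.ThRel.Model
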