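import Cfsg.Agent.ThRel.Model.Perm
import Cfsg.Agent.ThRel.Model.Reps
import Cfsg.Agent.ThCent.Final
import Cfsg.Agent.DCoset.Th.Big

/-!
# The kernel of the action is the kernel of the map to Th
-/

set_option autoImplicit false
set_option maxRecDepth 100000

namespace Cfsg.Agent.ThRel.Model

open Cfsg.Agent.CosetCert
open Cfsg.Agent.ThCent (PC PA PD perm9 phiA toTh qC qWord qList toPoint key destIdx thCfg)

/-- Free words as elements of the presented centraliser. -/
noncomputable def wd (l : List (Fin 7 × Bool)) : PC := PresentedGroup.mk _ (FreeGroup.mk l)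

theorem wd_append (l m : List (Fin 7 × Bool)) : wd (l ++ m) = wd l * wd m := by
  rw [wd, ← FreeGroup.mul_mk, map_mul]; rfl

theorem wd_nil : wd [] = 1 := by rw [wd, show FreeGroup.mk ([] : List (Fin 7 × Bool)) = 1 from rfl, map_one]

theorem wd_invRev (l : List (Fin 7 × Bool)) : wd (FreeGroup.invRev l) = (wd l)⁻¹ := by
  rw [wd, ← FreeGroup.inv_mk, map_inv]; rfl

theorem wd_of (b : Fin 7) : wd [(b, true)] = PresentedGroup.of b := rfl

/-- The nine generators of `Q` as words: the eight conjugates of `c`, then `a`. -/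
def genW (i : Nat) : List (Fin 7 × Bool) :=
  if h : i < 8 then FreeGroup.invRev (qWord ⟨i, h⟩) ++ [(1, true)] ++ qWord ⟨i, h⟩ else [(0, true)]

theorem wd_genW (i : Fin 8) : wd (genW i.val) = qC i := by
  rw [genW, dif_pos i.2, wd_append, wd_append, wd_invRev, wd_of, qC]
  rfl

/-- The word of a code. -/
def qexp (n : Nat) : List (Fin 7 × Bool) := (bitsQ n).flatMap genW

/-- The three images together. -/
noncomputable def three : PC →* Spor.Th × (Equiv.Perm (Fin 61440) × Equiv.Perm (Fin 9)) :=
  toTh.prod (psi.prod sigma)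

/-- The checks showing two words equal in the three images. -/
noncomputable def agree (l m : List (Fin 7 × Bool)) : Bool :=
  (((l ++ m).all fun x => decide (x.1.val < 6)) &&
    Nat.beq (key (toPoint l)) (key (toPoint m))) &&
    (fixesAll ((l ++ FreeGroup.invRev m).map code) &&
      Nat.beq (sigRun (l.map code) idSig) (sigRun (m.map code) idSig))

theorem psi_one_of_fix {l : List (Fin 7 × Bool)} (h : fixesAll (l.map code) = true) : psi (wd l) = 1 := by
  rw [← inv_eq_one]
  exact Equiv.ext fun p => Fin.ext (by rw [wd, psi_inv]; exact run_fix (codes_lt l) h p.2)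

theorem sigma_wd (l : List (Fin 7 × Bool)) : enc (sigma (wd l)) = sigRun (l.map code) idSig := by
  rw [← enc_one, sigRun_enc, one_mul, wd, sigma_mk]

theorem toPoint_lt : ∀ (l : List (Fin 7 × Bool)), ∀ g ∈ toPoint l, g < 9 := by
  intro l g hg
  obtain ⟨⟨i, b⟩, -, rfl⟩ := List.mem_map.1 hg
  exact (show ∀ (i : Fin 7) (b : Bool), (cond b ([0, 2, 3, 4, 5, 7, 0].getD i.val 0)
    (ThCent.ivl ([0, 2, 3, 4, 5, 7, 0].getD i.val 0))) < 9 by decide) i b

theorem three_eq {l m : List (Fin 7 × Bool)} (h : agree l m = true) : three (wd l) = three (wd m) := by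
  simp only [agree, Bool.and_eq_true, List.all_eq_true, decide_eq_true_eq] at h
  obtain ⟨⟨hlow, hkey⟩, hfix, hsig⟩ := h
  refine Prod.ext ?_ (Prod.ext ?_ ?_)
  · show toTh (wd l) = toTh (wd m)
    have e1 := (thCfg DCoset.Th.big).φ_word l fun x hx => hlow x (List.mem_append_left _ hx)
    have e2 := (thCfg DCoset.Th.big).φ_word m fun x hx => hlow x (List.mem_append_right _ hx)
    rw [show toTh (wd l) = _ from e1, show toTh (wd m) = _ from e2]
    congr 1
    exact (thCfg DCoset.Th.big).P.eq_of_key _ _ (toPoint_lt l) (toPoint_lt m)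
      (Nat.eq_of_beq_eq_true hkey)
  · show psi (wd l) = psi (wd m)
    have h1 := psi_one_of_fix hfix
    rwa [wd_append, wd_invRev, map_mul, map_inv, mul_inv_eq_one] at h1
  · show sigma (wd l) = sigma (wd m)
    refine enc_injective ?_
    rw [sigma_wd, sigma_wd]
    exact Nat.eq_of_beq_eq_true hsig

theorem pair_agree : ∀ i j : Fin 8, i ≠ j →
    agree (genW i.val ++ genW j.val) (genW 8 ++ (genW j.val ++ genW i.val)) = true := by
  decide +kernel

theorem comm_agree : ∀ i : Fin 8, agree (genW 8 ++ genW i.val) (genW i.val ++ genW 8) = true := by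
  decide +kernel

theorem norm_agree : ∀ (g : Fin 4) (i : Fin 8),
    agree ([(destIdx g, false)] ++ genW i.val ++ [(destIdx g, true)])
        (qexp (phiQ (destIdx g).val (gQ i.val))) = true ∧
      agree ([(destIdx g, true)] ++ genW i.val ++ [(destIdx g, false)])
        (qexp (phiQ ((destIdx g).val + 7) (gQ i.val))) = true := by
  decide +kernel

theorem a_agree : ∀ (g : Fin 4), agree ([(destIdx g, false)] ++ genW 8 ++ [(destIdx g, true)]) (genW 8) =
    true ∧ agree ([(destIdx g, true)] ++ genW 8 ++ [(destIdx g, false)]) (genW 8) = true := by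
  decide +kernel

/-- The subgroup generated by the nine. -/
noncomputable def Qsub : Subgroup PC :=
  Subgroup.closure (insert (wd (genW 8)) (Set.range fun i : Fin 8 => qC i))

theorem qexp_mem (n : Nat) : wd (qexp n) ∈ Qsub := by
  unfold qexp
  have key : ∀ l : List Nat, wd (l.flatMap genW) ∈ Qsub := by
    intro l
    induction l with
    | nil => rw [List.flatMap_nil, wd_nil]; exact one_mem _
    | cons i l ih =>
      rw [List.flatMap_cons, wd_append]
      refine mul_mem ?_ ih
      by_cases h : i < 8
      · rw [show i = (⟨i, h⟩ : Fin 8).val from rfl, wd_genW]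
        exact Subgroup.subset_closure (Or.inr ⟨_, rfl⟩)
      · rw [show genW i = genW 8 by simp [genW, h]]
        exact Subgroup.subset_closure (Or.inl rfl)
  exact key _

theorem three_za_ne : three (wd (genW 8)) ≠ 1 := by
  intro h
  have h1 : toTh (wd (genW 8)) = 1 := congrArg Prod.fst h
  rw [show wd (genW 8) = PresentedGroup.of 0 from rfl] at h1
  have e := (thCfg DCoset.Th.big).φ_a
  rw [show (thCfg DCoset.Th.big).φ = toTh from rfl, h1] at e
  exact (thCfg DCoset.Th.big).za_ne ((thCfg DCoset.Th.big).ι_inj (e.symm.trans (map_one _).symm))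

theorem qC_sq (i : Fin 8) : qC i * qC i = 1 := by
  have h1 := ThCent.rel_sq 1 (by decide)
  simp only [qC]
  calc _ = (PresentedGroup.mk (wordRels ThCent.CPC.relWords) (FreeGroup.mk (qWord i)))⁻¹ *
        (PresentedGroup.of 1 * PresentedGroup.of 1) *
        PresentedGroup.mk (wordRels ThCent.CPC.relWords) (FreeGroup.mk (qWord i)) := by group
    _ = 1 := by rw [h1]; group

theorem za_sq : wd (genW 8) * wd (genW 8) = 1 := ThCent.rel_sq 0 (by decide)

/-- The images of the nine generate a group of the shape of `Eight`. -/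
theorem three_rel :
    (∀ i : Fin 8, three (wd (genW 8)) * three (qC i) = three (qC i) * three (wd (genW 8))) ∧
    (∀ i j : Fin 8, i ≠ j → three (qC i) * three (qC j) =
      three (wd (genW 8)) * (three (qC j) * three (qC i))) := by
  refine ⟨fun i => ?_, fun i j hij => ?_⟩
  · rw [← wd_genW, ← map_mul, ← map_mul, ← wd_append, ← wd_append]
    exact three_eq (comm_agree i)
  · rw [← wd_genW, ← wd_genW, ← map_mul, ← map_mul, ← map_mul, ← wd_append, ← wd_append, ← wd_append]
    exact three_eq (pair_agree i j hij)

theorem sublists_bits : ∀ l ∈ (List.range 9).sublists, ∃ n : Fin 512, bitsQ n.val = l := by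
  decide +kernel

/-- Every element of the image of `Qsub` is the image of a code. -/
theorem exists_code {g : Spor.Th × (Equiv.Perm (Fin 61440) × Equiv.Perm (Fin 9))}
    (hg : g ∈ Qsub.map three) : ∃ n, n < 512 ∧ g = three (wd (qexp n)) := by
  obtain ⟨hcomm, hpair⟩ := three_rel
  set z := three (wd (genW 8)) with hz
  have hz2 : z * z = 1 := by rw [hz, ← map_mul, za_sq, map_one]
  let val : List Nat → Spor.Th × (Equiv.Perm (Fin 61440) × Equiv.Perm (Fin 9)) :=
    fun l => three (wd (l.flatMap genW))
  have val_snoc : ∀ l i, val (l ++ [i]) = val l * three (wd (genW i)) := fun l i => by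
    simp only [val, List.flatMap_append, wd_append, map_mul, List.flatMap_cons, List.flatMap_nil,
      List.append_nil]
  have central : ∀ l : List Nat, val l * z = z * val l := by
    intro l
    induction l with
    | nil => simp [val, wd_nil]
    | cons i l ih =>
      have e : val (i :: l) = three (wd (genW i)) * val l := by
        simp only [val, List.flatMap_cons, wd_append, map_mul]
      have hi : z * three (wd (genW i)) = three (wd (genW i)) * z := by
        by_cases h : i < 8
        · have := hcomm ⟨i, h⟩; rwa [← wd_genW] at this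
        · rw [show genW i = genW 8 by simp [genW, h]]
      rw [e, mul_assoc, ih, ← mul_assoc, ← hi, mul_assoc]
  have main : ∀ k, k ≤ 8 → ∀ x ∈ Subgroup.closure (insert z
      {y | ∃ i : Fin 8, i.val < k ∧ three (qC i) = y}),
      ∃ l, List.Sublist l (List.range k) ∧ (x = val l ∨ x = val l * z) := by
    intro k
    induction k with
    | zero =>
      intro _ x hx
      have hle : Subgroup.closure (insert z {y | ∃ i : Fin 8, i.val < 0 ∧ three (qC i) = y}) ≤
          Subgroup.zpowers z := by
        rw [Subgroup.closure_le]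
        rintro y (rfl | ⟨i, hi, -⟩)
        · exact Subgroup.mem_zpowers _
        · omega
      obtain ⟨m, hm⟩ := Subgroup.mem_zpowers_iff.1 (hle hx)
      refine ⟨[], List.Sublist.refl _, ?_⟩
      rcases Int.even_or_odd m with ⟨j, rfl⟩ | ⟨j, rfl⟩
      · left
        rw [← hm, zpow_add, ← Commute.mul_zpow (Commute.refl z), hz2, one_zpow]
        simp [val, wd_nil]
      · right
        rw [← hm, two_mul, zpow_add, zpow_add, ← Commute.mul_zpow (Commute.refl z), hz2, one_zpow,
          one_mul, zpow_one]
        simp [val, wd_nil]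
    | succ k ih =>
      intro hk x hx
      have ih' := ih (by omega)
      set H := Subgroup.closure (insert z {y | ∃ i : Fin 8, i.val < k ∧ three (qC i) = y}) with hH
      set q := three (qC ⟨k, by omega⟩) with hq
      have hqq : q * q = 1 := by rw [hq, ← map_mul, qC_sq, map_one]
      have hqH : ∀ y ∈ H, q * y * q ∈ H := by
        intro y hy
        induction hy using Subgroup.closure_induction with
        | mem y hy =>
          rcases hy with rfl | ⟨i, hi, rfl⟩
          · rw [hq, ← hcomm, mul_assoc, ← hq, hqq, mul_one]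
            exact Subgroup.subset_closure (Or.inl rfl)
          · rw [hq, hpair _ _ (fun e => absurd (congrArg Fin.val e) (by simp; omega)), mul_assoc,
              mul_assoc, ← hq, hqq, mul_one]
            exact mul_mem (Subgroup.subset_closure (Or.inl rfl))
              (Subgroup.subset_closure (Or.inr ⟨i, hi, rfl⟩))
        | one => rw [mul_one, hqq]; exact one_mem _
        | mul u v _ _ hu hv =>
          rw [show q * (u * v) * q = (q * u * q) * (q * v * q) by
            simp only [mul_assoc]; rw [← mul_assoc q q (v * q), hqq, one_mul]]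
          exact mul_mem hu hv
        | inv u _ hu =>
          have e : q⁻¹ = q := inv_eq_of_mul_eq_one_right hqq
          rw [show q * u⁻¹ * q = (q * u * q)⁻¹ by simp only [mul_inv_rev, e, mul_assoc]]
          exact inv_mem hu
      have hset : ∀ y ∈ Subgroup.closure (insert z {y | ∃ i : Fin 8, i.val < k + 1 ∧ three (qC i) = y}),
          y ∈ H ∨ y * q ∈ H := by
        intro y hy
        induction hy using Subgroup.closure_induction with
        | mem y hy =>
          rcases hy with rfl | ⟨i, hi, rfl⟩
          · exact Or.inl (Subgroup.subset_closure (Or.inl rfl))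
          · rcases Nat.lt_succ_iff_lt_or_eq.1 hi with h | h
            · exact Or.inl (Subgroup.subset_closure (Or.inr ⟨i, h, rfl⟩))
            · refine Or.inr ?_
              rw [show i = ⟨k, by omega⟩ from Fin.ext h, ← hq, hqq]
              exact one_mem _
        | one => exact Or.inl (one_mem _)
        | mul u v _ _ hu hv =>
          rcases hu with hu | hu <;> rcases hv with hv | hv
          · exact Or.inl (mul_mem hu hv)
          · exact Or.inr (by rw [mul_assoc]; exact mul_mem hu hv)
          · refine Or.inr ?_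
            have h2 := mul_mem hu (hqH v hv)
            rwa [show u * q * (q * v * q) = u * v * q by
              simp only [mul_assoc]; rw [← mul_assoc q q (v * q), hqq, one_mul]] at h2
          · refine Or.inl ?_
            have h2 := mul_mem hu (hqH _ hv)
            rwa [show u * q * (q * (v * q) * q) = u * v by
              simp only [mul_assoc]; rw [← mul_assoc q q (v * (q * q)), hqq, one_mul, mul_one]] at h2
        | inv u _ hu =>
          have e : q⁻¹ = q := inv_eq_of_mul_eq_one_right hqq
          rcases hu with hu | hu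
          · exact Or.inl (inv_mem hu)
          · refine Or.inr ?_
            have h2 := hqH _ (inv_mem hu)
            rwa [mul_inv_rev, e, ← mul_assoc q q, hqq, one_mul] at h2
      have hq' : three (wd (genW k)) = q := by
        rw [hq, ← wd_genW]
      rcases hset x hx with h | h
      · obtain ⟨l, hl, hx'⟩ := ih' x h
        exact ⟨l, hl.trans (by rw [List.range_succ]; exact List.sublist_append_left _ _), hx'⟩
      · obtain ⟨l, hl, hx'⟩ := ih' _ h
        refine ⟨l ++ [k], by rw [List.range_succ]; exact hl.append (List.Sublist.refl _), ?_⟩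
        rw [val_snoc, hq']
        rcases hx' with e | e
        · left; rw [← e, mul_assoc, hqq, mul_one]
        · right
          rw [mul_assoc, ← hcomm, ← mul_assoc, ← e, mul_assoc, hqq, mul_one]
  have hg' : g ∈ Subgroup.closure (insert z {y | ∃ i : Fin 8, i.val < 8 ∧ three (qC i) = y}) := by
    rw [Qsub, MonoidHom.map_closure, Set.image_insert_eq] at hg
    refine Subgroup.closure_mono (Set.insert_subset_insert ?_) hg
    rintro _ ⟨_, ⟨i, rfl⟩, rfl⟩
    exact ⟨i, i.2, rfl⟩
  obtain ⟨l, hl, h⟩ := main 8 le_rfl g hg'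
  have pick : ∀ l', List.Sublist l' (List.range 9) → ∀ x, x = val l' → ∃ n, n < 512 ∧
      x = three (wd (qexp n)) := by
    intro l' hl' x hx
    obtain ⟨n, hn⟩ := sublists_bits l' (List.mem_sublists.2 hl')
    exact ⟨n, n.2, by rw [hx, qexp, hn]⟩
  rcases h with h | h
  · exact pick l (hl.trans (by rw [List.range_succ]; exact List.sublist_append_left _ _)) g h
  · refine pick (l ++ [8]) ?_ g (by rw [h, val_snoc])
    rw [List.range_succ]
    exact hl.append (List.Sublist.refl _)

/-- The point group inside the presented centraliser. -/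
noncomputable def ofPD : PD →* PC :=
  PresentedGroup.toGroup (f := fun i => (PresentedGroup.of (destIdx i) : PC)) (ThCent.rel_one
    fun l hl => by
      have e : FreeGroup.lift (fun i => (PresentedGroup.of (destIdx i) : PC)) =
          (PresentedGroup.mk _).comp (FreeGroup.map destIdx) := by
        apply FreeGroup.ext_hom; intro b; simp [PresentedGroup.of]
      rw [e, MonoidHom.comp_apply, FreeGroup.map.mk]
      exact PresentedGroup.one_of_mem (List.mem_map_of_mem
        ((show ∀ l ∈ ThCent.CPD.relWords,
          (l.map fun x => (destIdx x.1, x.2)) ∈ ThCent.CPC.relWords by decide +kernel) l hl)))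

theorem card_three : Nat.card three.range ≤ 92897280 ∧ Finite three.range := by
  set Q' := Qsub.map three with hQ'
  set L' := (three.comp ofPD).range with hL'
  have := ThCent.card_PD.2
  have hLf : Finite L' := Finite.of_surjective _ (three.comp ofPD).rangeRestrict_surjective
  have hQs : Function.Surjective (fun n : Fin 512 =>
      (⟨three (wd (qexp n.val)), Subgroup.mem_map_of_mem _ (qexp_mem _)⟩ : Q')) := by
    rintro ⟨g, hg⟩
    obtain ⟨n, hn, rfl⟩ := exists_code hg
    exact ⟨⟨n, hn⟩, rfl⟩
  have hQf : Finite Q' := Finite.of_surjective _ hQs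
  have hQc : Nat.card Q' ≤ 512 := (Nat.card_le_card_of_surjective _ hQs).trans (by simp)
  have hLc : Nat.card L' ≤ 1512 :=
    (Nat.card_le_card_of_surjective _ (three.comp ofPD).rangeRestrict_surjective).trans
      (le_of_eq ThCent.card_PD.1)
  have hconj : ∀ (g : Fin 4) (b : Bool), ∀ y ∈ Q',
      three (wd [(destIdx g, !b)]) * y * (three (wd [(destIdx g, !b)]))⁻¹ ∈ Q' := by
    intro g b y hy
    have hgen : insert (wd (genW 8)) (Set.range fun i : Fin 8 => qC i) ⊆
        ((Q'.comap three).comap (MulAut.conj (wd [(destIdx g, !b)])).toMonoidHom : Set PC) := by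
      have einv : (wd [(destIdx g, !b)])⁻¹ = wd [(destIdx g, b)] := by
        rw [← wd_invRev]; simp [FreeGroup.invRev]
      rintro x (rfl | ⟨i, rfl⟩)
      · show three (_ * _ * _) ∈ Q'
        rw [einv, ← wd_append, ← wd_append,
          show three (wd ([(destIdx g, !b)] ++ genW 8 ++ [(destIdx g, b)])) = three (wd (genW 8)) from by
            cases b
            · exact three_eq (a_agree g).2
            · exact three_eq (a_agree g).1]
        exact Subgroup.mem_map_of_mem _ (Subgroup.subset_closure (Or.inl rfl))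
      · show three (_ * qC i * _) ∈ Q'
        rw [← wd_genW, einv, ← wd_append, ← wd_append]
        cases b <;> simp only [Bool.not_true, Bool.not_false]
        · rw [three_eq (norm_agree g i).2]; exact Subgroup.mem_map_of_mem _ (qexp_mem _)
        · rw [three_eq (norm_agree g i).1]; exact Subgroup.mem_map_of_mem _ (qexp_mem _)
    obtain ⟨x, hx, rfl⟩ := hy
    have := (Subgroup.closure_le _).2 hgen hx
    simpa using this
  have hnorm : L' ≤ Subgroup.normalizer (Q' : Set _) := by
    rw [hL', MonoidHom.range_eq_map, ← PresentedGroup.closure_range_of (wordRels ThCent.CPD.relWords),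
      MonoidHom.map_closure, Subgroup.closure_le]
    rintro _ ⟨_, ⟨g, rfl⟩, rfl⟩
    rw [SetLike.mem_coe, Subgroup.mem_normalizer_iff]
    have e : (three.comp ofPD) (PresentedGroup.of g) = three (wd [(destIdx g, true)]) := by
      rw [MonoidHom.comp_apply, ofPD, PresentedGroup.toGroup.of]; rfl
    have e2 : three (wd [(destIdx g, false)]) = (three (wd [(destIdx g, true)]))⁻¹ := by
      rw [← map_inv, ← wd_invRev]; rfl
    intro h
    rw [e]
    refine ⟨fun hh => hconj g false h hh, fun hh => ?_⟩
    have := hconj g true _ hh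
    simp only [Bool.not_true] at this
    rw [e2] at this
    convert this using 1
    group
  have hsub : (Data.sub (wordRels ThCent.CPC.relWords) ThCent.CPC.subWords).map three ≤ L' ⊔ Q' := by
    rw [Data.sub, MonoidHom.map_closure, MonoidHom.map_closure, Subgroup.closure_le]
    rintro _ ⟨_, ⟨w, hw, rfl⟩, rfl⟩
    have hL : ∀ g : Fin 4, three (PresentedGroup.of (destIdx g)) ∈ L' ⊔ Q' := fun g =>
      Subgroup.mem_sup_left ⟨PresentedGroup.of g, by
        rw [MonoidHom.comp_apply, ofPD, PresentedGroup.toGroup.of]⟩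
    simp only [ThCent.CPC.subWords, Set.mem_setOf_eq, List.mem_cons, List.not_mem_nil, or_false] at hw
    rcases hw with rfl | rfl | rfl | rfl | rfl | rfl
    · exact Subgroup.mem_sup_right (Subgroup.mem_map_of_mem _ (Subgroup.subset_closure (Or.inl rfl)))
    · refine Subgroup.mem_sup_right (Subgroup.mem_map_of_mem _ (Subgroup.subset_closure (Or.inr ⟨0, ?_⟩)))
      show qC 0 = _
      rw [← wd_genW]; rfl
    · exact hL 0
    · exact hL 1
    · exact hL 2
    · exact hL 3
  have hLQ : Finite (L' ⊔ Q' : Subgroup _) ∧ Nat.card (L' ⊔ Q' : Subgroup _) ≤ 1512 * 512 := by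
    have hcoe := Subgroup.coe_mul_of_left_le_normalizer_right L' Q' hnorm
    have hs : Function.Surjective (fun p : L' × Q' => (⟨p.1.1 * p.2.1,
        mul_mem (Subgroup.mem_sup_left p.1.2) (Subgroup.mem_sup_right p.2.2)⟩ : (L' ⊔ Q' : Subgroup _))) := by
      rintro ⟨x, hx⟩
      rw [← SetLike.mem_coe, hcoe] at hx
      obtain ⟨p, hp, q, hq, rfl⟩ := hx
      exact ⟨(⟨p, hp⟩, ⟨q, hq⟩), rfl⟩
    refine ⟨Finite.of_surjective _ hs, (Nat.card_le_card_of_surjective _ hs).trans ?_⟩
    rw [Nat.card_prod]
    exact Nat.mul_le_mul hLc hQc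
  obtain ⟨hfin, hcard⟩ := hLQ
  set S := (Data.sub (wordRels ThCent.CPC.relWords) ThCent.CPC.subWords).map three.rangeRestrict with hS
  have hidx : S.index ∣ 120 := ThCent.CPC.index_val ▸ Subgroup.index_map_dvd _ three.rangeRestrict_surjective
  have hScard : Nat.card S ≤ 774144 ∧ Finite S := by
    have hinj : Function.Injective (fun x : S => (⟨x.1.1, hsub (by
        obtain ⟨y, hy, hyx⟩ := x.2
        exact ⟨y, hy, congrArg Subtype.val hyx⟩)⟩ : (L' ⊔ Q' : Subgroup _))) := fun x y h =>
      Subtype.ext (Subtype.ext (congrArg (fun t : (L' ⊔ Q' : Subgroup _) => t.1) h))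
    exact ⟨(Nat.card_le_card_of_injective _ hinj).trans hcard, Finite.of_injective _ hinj⟩
  obtain ⟨hc, hSf⟩ := hScard
  have hm := S.card_mul_index
  have hi : S.index ≤ 120 := Nat.le_of_dvd (by norm_num) hidx
  have hpos : 0 < S.index := Nat.pos_of_ne_zero fun h => by rw [h] at hidx; norm_num at hidx
  have hpos' : 0 < Nat.card S := Nat.card_pos
  exact ⟨by have := Nat.mul_le_mul hc hi; omega,
    Nat.finite_of_card_ne_zero (by rw [← hm]; exact (Nat.mul_pos hpos' hpos).ne')⟩

theorem card_toTh_range : Nat.card toTh.range = 92897280 := by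
  haveI := DCoset.Th.th_finite.1
  let S := thCfg DCoset.Th.big
  exact le_antisymm ((Subgroup.card_le_of_le S.range_le_centralizer).trans S.card_centralizer_le)
    (ThCent.card_ge (S.image toTh.rangeRestrict toTh.range.subtype (fun _ => rfl)
      toTh.range.subtype_injective toTh.rangeRestrict_surjective))

theorem three_ker : three.ker = toTh.ker := by
  obtain ⟨hc, hf⟩ := card_three
  have hle : three.ker ≤ toTh.ker := fun x hx => congrArg Prod.fst (MonoidHom.mem_ker.1 hx)
  refine le_antisymm hle (Subgroup.relIndex_eq_one.1 ?_)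
  have h := Subgroup.relIndex_mul_index hle
  rw [Subgroup.index_ker, Subgroup.index_ker, card_toTh_range] at h
  have hpos : 0 < Nat.card three.range := Nat.card_pos
  rcases Nat.lt_or_ge (three.ker.relIndex toTh.ker) 2 with h2 | h2
  · interval_cases hh : three.ker.relIndex toTh.ker
    · omega
    · rfl
  · have := Nat.mul_le_mul_right 92897280 h2
    exact absurd (this.trans (h.le.trans hc)) (by norm_num)

/-- The stabiliser of the first point. -/
noncomputable def stab : Subgroup PC :=
  (MulAction.stabilizer (Equiv.Perm (Fin 61440)) (⟨0, by norm_num⟩ : Fin 61440)).comap psi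

theorem mem_stab {x : PC} : x ∈ stab ↔ (psi x)⁻¹ ⟨0, by norm_num⟩ = ⟨0, by norm_num⟩ := by
  rw [stab, Subgroup.mem_comap, MulAction.mem_stabilizer_iff, Equiv.Perm.smul_def, Equiv.Perm.inv_eq_iff_eq]
  exact eq_comm

theorem rep_ok : allFrom (fun i => Nat.beq (run ((repWord.getD i []).map code) 0) (Nat.mul i 512)) 0 120 = true := by
  decide +kernel

theorem genW_ok : allFrom (fun i => allFrom (fun j => Nat.beq (run ((genW j).map code) (Nat.mul i 512))
      (Nat.add (Nat.mul i 512) (gQ j))) 0 9) 0 120 = true := by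
  decide +kernel

theorem genW_phi : allFrom (fun j => allFrom (fun i => Nat.beq (phiRun ((genW j).map code) (gQ i))
    (mulQ (invQ (gQ j)) (mulQ (gQ i) (gQ j)))) 0 9) 0 9 = true := by
  decide +kernel

theorem gQ_lt {i : Nat} (hi : i < 9) : gQ i < 512 :=
  (show ∀ j : Fin 9, gQ j.val < 512 by decide) ⟨i, hi⟩

theorem run_genW {i j r : Nat} (hi : i < 120) (hj : j < 9) (hr : r < 512) :
    run ((genW j).map code) (i * 512 + r) = i * 512 + mulQ r (gQ j) := by
  obtain ⟨jj, c, -, hc, h⟩ := run_affine _ (codes_lt (genW j)) i hi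
  have hg := gQ_lt hj
  have h0 := h 0 (by norm_num)
  rw [phiRun_zero _ (codes_lt _), mulQ_zero, Nat.add_zero, show run ((genW j).map code) (i * 512) =
    i * 512 + gQ j from Nat.eq_of_beq_eq_true ((allFrom_iff _ _ _).1 ((allFrom_iff _ _ _).1 genW_ok i
      (Nat.zero_le _) (by omega)) j (Nat.zero_le _) (by omega))] at h0
  have e1 : jj = i := by omega
  have e2 : c = gQ j := by omega
  rw [h r hr, e1, e2]
  congr 1
  obtain ⟨hi1, hi2, hi3⟩ := invQ_spec ⟨gQ j, hg⟩
  refine code_induction (P := fun r => mulQ (gQ j) (phiRun ((genW j).map code) r) = mulQ r (gQ j)) ?_ ?_ hr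
  · rw [phiRun_zero _ (codes_lt _), mulQ_zero, zero_mulQ]
  · intro r hr k hk ih
    rw [phiRun_mul _ (codes_lt _) r _ hr (gQ_lt hk), ← mulQ_assoc, ih,
      show phiRun ((genW j).map code) (gQ k) = mulQ (invQ (gQ j)) (mulQ (gQ k) (gQ j)) from
        Nat.eq_of_beq_eq_true ((allFrom_iff _ _ _).1 ((allFrom_iff _ _ _).1 genW_phi j
          (Nat.zero_le _) (by omega)) k (Nat.zero_le _) (by omega)),
      mulQ_assoc r, ← mulQ_assoc (gQ j), hi3, zero_mulQ, ← mulQ_assoc]

theorem run_bits : ∀ (l : List Nat), (∀ j ∈ l, j < 9) → ∀ i r, i < 120 → r < 512 →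
    run ((l.flatMap genW).map code) (i * 512 + r) = i * 512 + l.foldl (fun r j => mulQ r (gQ j)) r
  | [], _, _, _, _, _ => rfl
  | j :: l, hl, i, r, hi, hr => by
    have hj := hl j List.mem_cons_self
    rw [List.flatMap_cons, List.map_append, run_append, run_genW hi hj hr,
      run_bits l (fun k hk => hl k (List.mem_cons_of_mem _ hk)) i _ hi (mulQ_lt hr (gQ_lt hj))]
    rfl

theorem bitsQ_lt (n : Nat) : ∀ j ∈ bitsQ n, j < 9 := fun _ hj =>
  List.mem_range.1 (List.mem_filter.1 hj).1

theorem foldl_mulQ : ∀ (l : List Nat), (∀ j ∈ l, j < 9) → ∀ r, r < 512 →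
    l.foldl (fun r j => mulQ r (gQ j)) r = mulQ r (l.foldl (fun r j => mulQ r (gQ j)) 0) ∧
      l.foldl (fun r j => mulQ r (gQ j)) r < 512
  | [], _, r, hr => ⟨(mulQ_zero r).symm, hr⟩
  | j :: l, hl, r, hr => by
    have hj := hl j List.mem_cons_self
    have hl' := fun k hk => hl k (List.mem_cons_of_mem j hk)
    obtain ⟨e1, b1⟩ := foldl_mulQ l hl' (mulQ r (gQ j)) (mulQ_lt hr (gQ_lt hj))
    obtain ⟨e2, -⟩ := foldl_mulQ l hl' (gQ j) (gQ_lt hj)
    refine ⟨?_, b1⟩
    rw [List.foldl_cons, List.foldl_cons, zero_mulQ, e1, e2, mulQ_assoc]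

/-- A code acts by right multiplication. -/
theorem run_qexp {i r n : Nat} (hi : i < 120) (hr : r < 512) (hn : n < 512) :
    run ((qexp n).map code) (i * 512 + r) = i * 512 + mulQ r n := by
  rw [qexp, run_bits _ (bitsQ_lt n) i r hi hr, (foldl_mulQ _ (bitsQ_lt n) r hr).1,
    bitsQ_spec ⟨n, hn⟩]

theorem transitive (p : Fin 61440) : ∃ x : PC, (psi x)⁻¹ ⟨0, by norm_num⟩ = p := by
  refine ⟨wd (repWord.getD (p.val / 512) [] ++ qexp (p.val % 512)), Fin.ext ?_⟩
  rw [wd, psi_inv, List.map_append, run_append,
    show run ((repWord.getD (p.val / 512) []).map code) 0 = p.val / 512 * 512 from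
      Nat.eq_of_beq_eq_true ((allFrom_iff _ _ _).1 rep_ok _ (Nat.zero_le _) (by omega))]
  have h := run_qexp (i := p.val / 512) (r := 0) (n := p.val % 512) (by omega) (by norm_num) (by omega)
  rw [zero_mulQ, Nat.add_zero] at h
  rw [h]
  omega

theorem index_stab : stab.index = 61440 := by
  let _act : MulAction PC (Fin 61440) := MulAction.compHom _ psi
  have hs : MulAction.stabilizer PC (⟨0, by norm_num⟩ : Fin 61440) = stab := rfl
  rw [← hs, MulAction.index_stabilizer]
  have ho : MulAction.orbit PC (⟨0, by norm_num⟩ : Fin 61440) = Set.univ := by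
    refine Set.eq_univ_of_forall fun p => ?_
    obtain ⟨x, hx⟩ := transitive p
    refine ⟨x⁻¹, ?_⟩
    show psi x⁻¹ ⟨0, by norm_num⟩ = p
    rw [map_inv]
    exact hx
  rw [ho, Set.ncard_univ, Nat.card_eq_fintype_card, Fintype.card_fin]

theorem low_stab : ∀ g : Fin 4,
    Nat.beq (run ([(destIdx g, true)].map code) 0) 0 = true := by
  decide +kernel

/-- An element fixing the first point and the nine points is in the kernel of the map to Th. -/
theorem mem_ker_of_fix {x : PC} (hx : x ∈ stab) (hs : sigma x = 1) : x ∈ toTh.ker := by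
  have hkle : toTh.ker ≤ stab := by
    intro y hy
    rw [← three_ker, MonoidHom.mem_ker] at hy
    rw [mem_stab, show psi y = 1 from congrArg (fun t => t.2.1) hy]
    simp
  let σ' := sigma.comp stab.subtype
  have hk2 : toTh.ker.subgroupOf stab ≤ σ'.ker := by
    intro y hy
    have hy' := Subgroup.mem_subgroupOf.1 hy
    rw [← three_ker, MonoidHom.mem_ker] at hy'
    exact congrArg (fun t => t.2.2) hy'
  have hidx : (toTh.ker.subgroupOf stab).index = 1512 := by
    have h := Subgroup.relIndex_mul_index hkle
    rw [index_stab, Subgroup.index_ker, card_toTh_range] at h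
    change toTh.ker.relIndex stab = 1512
    exact Nat.eq_of_mul_eq_mul_right (show 0 < 61440 by norm_num) (h.trans (by norm_num))
  have hge : 1512 ≤ Nat.card σ'.range := by
    set A := Data.sub (wordRels ThCent.CPA.relWords) ThCent.CPA.subWords with hA
    have hAc : Nat.card A = 1512 := by
      have h := A.card_mul_index
      rw [hA, ThCent.CPA.index_val, Nat.card_congr ThCent.isoA9.toEquiv, ThCent.card_alt9, ← hA] at h
      exact Nat.eq_of_mul_eq_mul_right (show 0 < 120 by norm_num) (h.trans (by norm_num))
    have hAle : A.map phiA ≤ σ'.range := by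
      rw [hA, Data.sub, MonoidHom.map_closure, MonoidHom.map_closure, Subgroup.closure_le]
      rintro _ ⟨_, ⟨w, hw, rfl⟩, rfl⟩
      have hg : ∀ g : Fin 4, phiA (PresentedGroup.of (destIdx g) : PA) ∈ σ'.range := fun g => by
        refine ⟨⟨PresentedGroup.of (destIdx g), ?_⟩, ?_⟩
        · rw [mem_stab]
          apply Fin.ext
          rw [← wd_of, wd, psi_inv]
          exact Nat.eq_of_beq_eq_true (low_stab g)
        · simp only [σ', MonoidHom.comp_apply, sigma, Subgroup.coe_subtype, toPA, PresentedGroup.toGroup.of]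
      simp only [ThCent.CPA.subWords, Set.mem_setOf_eq, List.mem_cons, List.not_mem_nil, or_false] at hw
      rcases hw with rfl | rfl | rfl | rfl
      exacts [hg 0, hg 1, hg 2, hg 3]
    refine le_trans (le_of_eq ?_) (Subgroup.card_le_of_le hAle)
    rw [← hAc]
    exact Nat.card_congr (Subgroup.equivMapOfInjective A phiA ThCent.phiA_injective).toEquiv
  have hker : σ'.ker ≤ toTh.ker.subgroupOf stab := by
    refine Subgroup.relIndex_eq_one.1 ?_
    have h := Subgroup.relIndex_mul_index hk2
    rw [hidx, Subgroup.index_ker] at h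
    rcases Nat.lt_or_ge ((toTh.ker.subgroupOf stab).relIndex σ'.ker) 2 with h2 | h2
    · interval_cases hh : (toTh.ker.subgroupOf stab).relIndex σ'.ker
      · omega
      · rfl
    · have := Nat.mul_le_mul h2 hge
      omega
  exact Subgroup.mem_subgroupOf.1 (hker (show (⟨x, hx⟩ : stab) ∈ σ'.ker from hs))

theorem ker_le_sigma {x : PC} (hx : x ∈ toTh.ker) : psi x = 1 ∧ sigma x = 1 := by
  rw [← three_ker, MonoidHom.mem_ker] at hx
  exact ⟨congrArg (fun t => t.2.1) hx, congrArg (fun t => t.2.2) hx⟩

/-- Equality modulo the kernel of the map to Th is equality of states. -/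
theorem ker_iff_state (l m : List (Fin 7 × Bool)) :
    (wd l)⁻¹ * wd m ∈ toTh.ker ↔ ev (l.map code) = ev (m.map code) := by
  have hrun : ∀ w : List (Fin 7 × Bool), (run (w.map code) 0) < 65536 := fun w => by
    have := ((psi (wd w))⁻¹ ⟨0, by norm_num⟩).2
    rw [wd, psi_inv] at this
    exact this.trans (by norm_num)
  have hev : ev (l.map code) = ev (m.map code) ↔
      (psi (wd l))⁻¹ ⟨0, by norm_num⟩ = (psi (wd m))⁻¹ ⟨0, by norm_num⟩ ∧ sigma (wd l) = sigma (wd m) := by
    rw [Fin.ext_iff, ← enc_injective.eq_iff, sigma_wd, sigma_wd, wd, wd, psi_inv, psi_inv]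
    simp only [ev, Nat.add_eq, Nat.mul_eq]
    have h1 := hrun l; have h2 := hrun m
    omega
  rw [hev]
  constructor
  · intro h
    obtain ⟨h1, h2⟩ := ker_le_sigma h
    rw [map_mul, map_inv, inv_mul_eq_one] at h1 h2
    exact ⟨by rw [h1], h2⟩
  · rintro ⟨h1, h2⟩
    refine (MonoidHom.normal_ker toTh).mem_comm ?_
    refine mem_ker_of_fix (mem_stab.2 ?_) (by rw [map_mul, map_inv, h2, mul_inv_cancel])
    rw [map_mul, map_inv, mul_inv_rev, inv_inv, Equiv.Perm.mul_apply, ← h1]
    exact (psi (wd l)).apply_symm_apply _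

end Cfsg.Agent.ThRel.Model
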