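import Cfsg.Agent.ThRel.Model.Q
import Cfsg.Agent.ThCent.Core

/-!
# The presented centraliser acting on `120 × 512` points and on nine points

A word is read from the left; a letter `k < 7` is a generator, `k + 7` its inverse and `14 + q` stands
for the element of `Q` of code `q`, acting by right multiplication.
-/

set_option autoImplicit false
set_option maxRecDepth 100000

namespace Cfsg.Agent.ThRel.Model

open Cfsg.Agent.CosetCert
open Cfsg.Agent.ThCent (PC PA perm9 phiA)

/-- The coset and code met by a letter at a coset. -/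
noncomputable def edge (k i : Nat) : Nat :=
  Nat.land (Nat.shiftRight (stepStore.get i) (Nat.mul 16 k)) 65535

/-- A letter applied to a point. -/
noncomputable def step (k p : Nat) : Nat :=
  force (Nat.shiftRight p 9) fun i => force (Nat.land p 511) fun r =>
    Bool.rec (motive := fun _ => Nat) (Nat.add (Nat.mul i 512) (mulQ r (Nat.sub k 14)))
      (force (edge k i) fun e =>
        Nat.add (Nat.mul (Nat.shiftRight e 9) 512) (mulQ (Nat.land e 511) (phiQ k r)))
      (Nat.blt k 14)

/-- A word applied to a point. -/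
noncomputable def run (w : List Nat) (p : Nat) : Nat :=
  List.rec (motive := fun _ => Nat → Nat) (fun p => p)
    (fun k _ ih p => force (step k p) fun q => ih q) w p

/-- The conjugation of a word of letters on codes. -/
noncomputable def phiRun (w : List Nat) (r : Nat) : Nat :=
  List.rec (motive := fun _ => Nat → Nat) (fun r => r)
    (fun k _ ih r => force (phiQ k r) fun q => ih q) w r

/-- The identity as nine digits. -/
def idSig : Nat := 0x876543210

/-- Nine digits permuted by a letter. -/
noncomputable def sigStep (k g : Nat) : Nat :=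
  Bool.rec (motive := fun _ => Nat) g
    (force (sigStore.get k) fun P =>
      Nat.rec 0 (fun x ih => Nat.add ih (Nat.shiftLeft (Nat.land (Nat.shiftRight g
        (Nat.mul 4 (Nat.land (Nat.shiftRight P (Nat.mul 4 x)) 15))) 15) (Nat.mul 4 x))) 9)
    (Nat.blt k 14)

/-- The nine digits of a word. -/
noncomputable def sigRun (w : List Nat) (g : Nat) : Nat :=
  List.rec (motive := fun _ => Nat → Nat) (fun g => g)
    (fun k _ ih g => force (sigStep k g) fun q => ih q) w g

/-- The state of a word. -/
noncomputable def ev (w : List Nat) : Nat := Nat.add (run w 0) (Nat.mul 65536 (sigRun w idSig))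

theorem blt_iff {a b : Nat} : Nat.blt a b = true ↔ a < b :=
  ⟨fun h => Nat.le_of_ble_eq_true h, fun h => Nat.ble_eq_true_of_le h⟩

theorem run_nil (p : Nat) : run [] p = p := rfl
theorem run_cons (k : Nat) (w : List Nat) (p : Nat) : run (k :: w) p = run w (step k p) := by
  show (force (step k p) fun q => run w q) = _
  rw [force_eq]
theorem phiRun_cons (k : Nat) (w : List Nat) (r : Nat) : phiRun (k :: w) r = phiRun w (phiQ k r) := by
  show (force (phiQ k r) fun q => phiRun w q) = _
  rw [force_eq]
theorem sigRun_cons (k : Nat) (w : List Nat) (g : Nat) : sigRun (k :: w) g = sigRun w (sigStep k g) := by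
  show (force (sigStep k g) fun q => sigRun w q) = _
  rw [force_eq]

theorem run_append : ∀ (u v : List Nat) (p : Nat), run (u ++ v) p = run v (run u p)
  | [], _, _ => rfl
  | k :: u, v, p => by rw [List.cons_append, run_cons, run_cons, run_append u v]

theorem edge_ok : allFrom (fun i => allFrom (fun k =>
    gate (Nat.blt (Nat.shiftRight (edge k i) 9) 120) (Nat.blt (Nat.land (edge k i) 511) 512)) 0 14) 0 120 =
      true := by
  decide +kernel

theorem edge_lt {k i : Nat} (hk : k < 14) (hi : i < 120) : edge k i >>> 9 < 120 := by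
  have h := (allFrom_iff _ _ _).1 ((allFrom_iff _ _ _).1 edge_ok i (Nat.zero_le _) (by omega)) k
    (Nat.zero_le _) (by omega)
  simp only [gate_eq, Bool.and_eq_true] at h
  exact blt_iff.1 h.1

theorem point_split {i r : Nat} (hr : r < 512) : (i * 512 + r) >>> 9 = i ∧ (i * 512 + r) &&& 511 = r := by
  rw [Nat.shiftRight_eq_div_pow, show (511 : Nat) = 2 ^ 9 - 1 from rfl,
    Nat.and_two_pow_sub_one_eq_mod]
  omega

theorem step_letter {k i r : Nat} (hk : k < 14) (hr : r < 512) :
    step k (i * 512 + r) = (edge k i >>> 9) * 512 + mulQ (edge k i &&& 511) (phiQ k r) := by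
  obtain ⟨e1, e2⟩ := point_split (i := i) hr
  simp only [step, force_eq]
  rw [show Nat.shiftRight (i * 512 + r) 9 = i from e1, show Nat.land (i * 512 + r) 511 = r from e2,
    show Nat.blt k 14 = true from blt_iff.2 hk]
  rfl

theorem step_code {q i r : Nat} (hr : r < 512) :
    step (14 + q) (i * 512 + r) = i * 512 + mulQ r q := by
  obtain ⟨e1, e2⟩ := point_split (i := i) hr
  simp only [step, force_eq]
  rw [show Nat.shiftRight (i * 512 + r) 9 = i from e1, show Nat.land (i * 512 + r) 511 = r from e2,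
    show Nat.blt (14 + q) 14 = false from by
      rw [Bool.eq_false_iff]; intro h; have := blt_iff.1 h; omega]
  show i * 512 + mulQ r (14 + q - 14) = _
  rw [Nat.add_sub_cancel_left]

theorem phiRun_lt : ∀ (w : List Nat) (r : Nat), r < 512 → phiRun w r < 512
  | [], _, h => h
  | k :: w, r, _ => by rw [phiRun_cons]; exact phiRun_lt w _ (phiQ_lt k r)

theorem phiRun_mul : ∀ w : List Nat, (∀ k ∈ w, k < 14) → ∀ a b, a < 512 → b < 512 →
    phiRun w (mulQ a b) = mulQ (phiRun w a) (phiRun w b)
  | [], _, _, _, _, _ => rfl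
  | k :: w, hw, a, b, ha, hb => by
    have hk := hw k List.mem_cons_self
    rw [phiRun_cons, phiRun_cons, phiRun_cons, phiQ_mul hk ha hb,
      phiRun_mul w (fun j hj => hw j (List.mem_cons_of_mem _ hj)) _ _ (phiQ_lt _ _) (phiQ_lt _ _)]

theorem phiRun_zero : ∀ w : List Nat, (∀ k ∈ w, k < 14) → phiRun w 0 = 0
  | [], _ => rfl
  | k :: w, hw => by
    rw [phiRun_cons, phiQ_zero (hw k List.mem_cons_self),
      phiRun_zero w fun j hj => hw j (List.mem_cons_of_mem _ hj)]

/-- A word acts affinely on each coset. -/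
theorem run_affine : ∀ w : List Nat, (∀ k ∈ w, k < 14) → ∀ i, i < 120 →
    ∃ j c, j < 120 ∧ c < 512 ∧ ∀ r, r < 512 → run w (i * 512 + r) = j * 512 + mulQ c (phiRun w r)
  | [], _, i, hi => ⟨i, 0, hi, by norm_num, fun r _ => by rw [run_nil, zero_mulQ]; rfl⟩
  | k :: w, hw, i, hi => by
    have hk := hw k List.mem_cons_self
    have hw' := fun j hj => hw j (List.mem_cons_of_mem k hj)
    obtain ⟨j, c, hj, hc, h⟩ := run_affine w hw' _ (edge_lt hk hi)
    have he : edge k i &&& 511 < 512 := Nat.lt_succ_of_le Nat.and_le_right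
    refine ⟨j, mulQ c (phiRun w (edge k i &&& 511)), hj, mulQ_lt hc (phiRun_lt w _ he), fun r hr => ?_⟩
    rw [run_cons, step_letter hk hr, h _ (mulQ_lt he (phiQ_lt _ _)),
      phiRun_mul w hw' _ _ he (phiQ_lt _ _), ← mulQ_assoc, phiRun_cons]

/-- Checking that a word fixes every point. -/
noncomputable def fixesAll (w : List Nat) : Bool :=
  gate (allFrom (fun i => Nat.beq (phiRun w (gQ i)) (gQ i)) 0 9)
    (allFrom (fun i => Nat.beq (run w (Nat.mul i 512)) (Nat.mul i 512)) 0 120)

theorem phiRun_fix {w : List Nat} (hw : ∀ k ∈ w, k < 14)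
    (h : ∀ i, i < 9 → phiRun w (gQ i) = gQ i) {r : Nat} (hr : r < 512) : phiRun w r = r := by
  refine code_induction (P := fun r => phiRun w r = r) (phiRun_zero w hw) ?_ hr
  intro r hr i hi ih
  rw [phiRun_mul w hw r _ hr ((show ∀ j : Fin 9, gQ j.val < 512 by decide) ⟨i, hi⟩), ih, h i hi]

theorem run_fix {w : List Nat} (hw : ∀ k ∈ w, k < 14) (h : fixesAll w = true) {p : Nat}
    (hp : p < 61440) : run w p = p := by
  simp only [fixesAll, gate_eq, Bool.and_eq_true] at h
  obtain ⟨hg, hi⟩ := h
  have hrun : ∀ r, r < 512 → phiRun w r = r := fun r hr => phiRun_fix hw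
    (fun i hi => Nat.eq_of_beq_eq_true ((allFrom_iff _ _ _).1 hg i (Nat.zero_le _) (by omega))) hr
  obtain ⟨i, r, hi', hr, rfl⟩ : ∃ i r, i < 120 ∧ r < 512 ∧ i * 512 + r = p :=
    ⟨p / 512, p % 512, by omega, by omega, by omega⟩
  obtain ⟨j, c, -, hc, h⟩ := run_affine w hw i hi'
  have h0 := h 0 (by norm_num)
  rw [phiRun_zero w hw, mulQ_zero, Nat.add_zero,
    show run w (i * 512) = i * 512 from
      Nat.eq_of_beq_eq_true ((allFrom_iff _ _ _).1 hi i (Nat.zero_le _) (by omega))] at h0
  have hj : j = i := by omega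
  have hc0 : c = 0 := by omega
  rw [h r hr, hrun r hr, hj, hc0, zero_mulQ]

theorem step_lt {k p : Nat} (hk : k < 14) (hp : p < 61440) : step k p < 61440 := by
  obtain ⟨i, r, hi, hr, rfl⟩ : ∃ i r, i < 120 ∧ r < 512 ∧ i * 512 + r = p :=
    ⟨p / 512, p % 512, by omega, by omega, by omega⟩
  rw [step_letter hk hr]
  have := edge_lt hk hi
  have := mulQ_lt (a := edge k i &&& 511) (Nat.lt_succ_of_le Nat.and_le_right) (phiQ_lt k r)
  omega

/-- The inverse letter. -/
def ivl (k : Nat) : Nat := (k + 7) % 14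

theorem inverse_ok : allFrom (fun k => fixesAll [k, ivl k]) 0 14 = true := by decide +kernel

theorem step_ivl {k p : Nat} (hk : k < 14) (hp : p < 61440) : step (ivl k) (step k p) = p := by
  have h := run_fix (w := [k, ivl k]) (by simp [ivl, hk]; omega)
    ((allFrom_iff _ _ _).1 inverse_ok k (Nat.zero_le _) (by omega)) hp
  simpa [run_cons, run_nil] using h

/-- A generator as a permutation of the points. -/
noncomputable def genPerm (b : Fin 7) : Equiv.Perm (Fin 61440) where
  toFun p := ⟨step b.val p.val, step_lt (by omega) p.2⟩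
  invFun p := ⟨step (b.val + 7) p.val, step_lt (by omega) p.2⟩
  left_inv p := Fin.ext (by
    have h := step_ivl (k := b.val) (by omega) p.2
    rwa [show ivl b.val = b.val + 7 by unfold ivl; omega] at h)
  right_inv p := Fin.ext (by
    have h := step_ivl (k := b.val + 7) (by omega) p.2
    rwa [show ivl (b.val + 7) = b.val by unfold ivl; omega] at h)

/-- A letter of a word in the generators. -/
def code (x : Fin 7 × Bool) : Nat := cond x.2 x.1.val (x.1.val + 7)

theorem code_lt (x : Fin 7 × Bool) : code x < 14 := by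
  obtain ⟨i, b⟩ := x; cases b <;> simp [code] <;> omega

theorem codes_lt (l : List (Fin 7 × Bool)) : ∀ k ∈ l.map code, k < 14 := by
  simp only [List.mem_map]
  rintro k ⟨x, -, rfl⟩
  exact code_lt x

/-- The action of a free word. -/
noncomputable def actF : FreeGroup (Fin 7) →* Equiv.Perm (Fin 61440) :=
  FreeGroup.lift fun b => (genPerm b)⁻¹

theorem actF_inv : ∀ (l : List (Fin 7 × Bool)) (p : Fin 61440),
    ((actF (FreeGroup.mk l))⁻¹ p).val = run (l.map code) p.val
  | [], p => by
    rw [show FreeGroup.mk ([] : List (Fin 7 × Bool)) = 1 from rfl, map_one, inv_one]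
    rfl
  | (b, c) :: l, p => by
    rw [show FreeGroup.mk ((b, c) :: l) = FreeGroup.mk [(b, c)] * FreeGroup.mk l by
      rw [FreeGroup.mul_mk]; rfl, map_mul, mul_inv_rev, Equiv.Perm.mul_apply, actF_inv l,
      List.map_cons, run_cons]
    congr 1
    cases c
    · simp only [actF, FreeGroup.lift_mk, List.map_cons, List.map_nil, List.prod_cons, List.prod_nil,
        mul_one, cond_false, code, inv_inv]
      rfl
    · simp only [actF, FreeGroup.lift_mk, List.map_cons, List.map_nil, List.prod_cons, List.prod_nil,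
        mul_one, cond_true, code, inv_inv]
      rfl

theorem rels_fix : ∀ l ∈ ThCent.CPC.relWords, fixesAll (l.map code) = true := by decide +kernel

/-- The action on the points. -/
noncomputable def psi : PC →* Equiv.Perm (Fin 61440) :=
  PresentedGroup.toGroup (f := fun b => (genPerm b)⁻¹) (ThCent.rel_one fun l hl => by
    rw [← inv_eq_one]
    refine Equiv.ext fun p => Fin.ext ?_
    rw [show (FreeGroup.lift fun b => (genPerm b)⁻¹) = actF from rfl, actF_inv]
    exact run_fix (codes_lt l) (rels_fix l hl) p.2)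

theorem psi_inv (l : List (Fin 7 × Bool)) (p : Fin 61440) :
    ((psi (PresentedGroup.mk _ (FreeGroup.mk l)))⁻¹ p).val = run (l.map code) p.val := by
  have h : psi.comp (PresentedGroup.mk _) = actF := by
    apply FreeGroup.ext_hom
    intro b
    simp only [MonoidHom.comp_apply, actF, FreeGroup.lift_apply_of]
    exact PresentedGroup.toGroup.of _
  rw [← actF_inv l p, ← h, MonoidHom.comp_apply]

/-- The map onto `A₉`'s presentation. -/
noncomputable def toPA : PC →* PA :=
  PresentedGroup.toGroup (f := fun i => (PresentedGroup.of i : PA)) (ThCent.rel_one fun l hl => by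
    have e : FreeGroup.lift (fun i => (PresentedGroup.of i : PA)) = PresentedGroup.mk _ := by
      apply FreeGroup.ext_hom; intro b; simp [PresentedGroup.of]
    rw [e]
    exact PresentedGroup.one_of_mem
      (List.mem_map_of_mem (by rw [ThCent.CPC_sub_CPA]; exact List.mem_append_left _ hl)))

/-- The action on nine points. -/
noncomputable def sigma : PC →* Equiv.Perm (Fin 9) := phiA.comp toPA

theorem sigma_mk (l : List (Fin 7 × Bool)) :
    sigma (PresentedGroup.mk _ (FreeGroup.mk l)) = FreeGroup.lift perm9 (FreeGroup.mk l) := by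
  rw [← ThCent.phiA_mk, sigma, MonoidHom.comp_apply]
  congr 1
  have h : toPA.comp (PresentedGroup.mk _) = PresentedGroup.mk _ := by
    apply FreeGroup.ext_hom
    intro b
    simp only [MonoidHom.comp_apply]
    exact PresentedGroup.toGroup.of _
  rw [← MonoidHom.comp_apply, h]

/-- A permutation of nine points as nine digits. -/
def enc (π : Equiv.Perm (Fin 9)) : Nat :=
  (π 0).val + 16 * ((π 1).val + 16 * ((π 2).val + 16 * ((π 3).val + 16 * ((π 4).val + 16 *
    ((π 5).val + 16 * ((π 6).val + 16 * ((π 7).val + 16 * (π 8).val)))))))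

theorem enc_one : enc 1 = idSig := by decide

theorem enc_digit (π : Equiv.Perm (Fin 9)) : ∀ x : Fin 9, (enc π >>> (4 * x.val)) &&& 15 = (π x).val := by
  have h : ∀ y, (π y).val < 16 := fun y => by omega
  have low : ∀ a R : Nat, a < 16 → ((a + 16 * R) >>> (4 * 0)) &&& 15 = a := fun a R ha => by
    rw [show (15 : Nat) = 2 ^ 4 - 1 from rfl, Nat.and_two_pow_sub_one_eq_mod, Nat.mul_zero,
      Nat.shiftRight_zero]
    omega
  have up : ∀ a R n : Nat, a < 16 → (a + 16 * R) >>> (4 * (n + 1)) = R >>> (4 * n) :=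
    fun a R n ha => by
      rw [Nat.mul_add, Nat.add_comm (4 * n), Nat.shiftRight_add]
      congr 1
      rw [Nat.shiftRight_eq_div_pow]
      omega
  intro x
  match x with
  | 0 => exact low _ _ (h 0)
  | 1 => show (enc π >>> (4 * (0 + 1))) &&& 15 = _
         rw [enc, up _ _ _ (h 0)]; exact low _ _ (h 1)
  | 2 => show (enc π >>> (4 * (0 + 1 + 1))) &&& 15 = _
         rw [enc, up _ _ _ (h 0), up _ _ _ (h 1)]; exact low _ _ (h 2)
  | 3 => show (enc π >>> (4 * (0 + 1 + 1 + 1))) &&& 15 = _
         rw [enc, up _ _ _ (h 0), up _ _ _ (h 1), up _ _ _ (h 2)]; exact low _ _ (h 3)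
  | 4 => show (enc π >>> (4 * (0 + 1 + 1 + 1 + 1))) &&& 15 = _
         rw [enc, up _ _ _ (h 0), up _ _ _ (h 1), up _ _ _ (h 2), up _ _ _ (h 3)]; exact low _ _ (h 4)
  | 5 => show (enc π >>> (4 * (0 + 1 + 1 + 1 + 1 + 1))) &&& 15 = _
         rw [enc, up _ _ _ (h 0), up _ _ _ (h 1), up _ _ _ (h 2), up _ _ _ (h 3), up _ _ _ (h 4)]
         exact low _ _ (h 5)
  | 6 => show (enc π >>> (4 * (0 + 1 + 1 + 1 + 1 + 1 + 1))) &&& 15 = _
         rw [enc, up _ _ _ (h 0), up _ _ _ (h 1), up _ _ _ (h 2), up _ _ _ (h 3), up _ _ _ (h 4),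
           up _ _ _ (h 5)]
         exact low _ _ (h 6)
  | 7 => show (enc π >>> (4 * (0 + 1 + 1 + 1 + 1 + 1 + 1 + 1))) &&& 15 = _
         rw [enc, up _ _ _ (h 0), up _ _ _ (h 1), up _ _ _ (h 2), up _ _ _ (h 3), up _ _ _ (h 4),
           up _ _ _ (h 5), up _ _ _ (h 6)]
         exact low _ _ (h 7)
  | 8 => show (enc π >>> (4 * (0 + 1 + 1 + 1 + 1 + 1 + 1 + 1 + 1))) &&& 15 = _
         rw [enc, up _ _ _ (h 0), up _ _ _ (h 1), up _ _ _ (h 2), up _ _ _ (h 3), up _ _ _ (h 4),
           up _ _ _ (h 5), up _ _ _ (h 6), up _ _ _ (h 7), Nat.mul_zero, Nat.shiftRight_zero,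
           show (15 : Nat) = 2 ^ 4 - 1 from rfl, Nat.and_two_pow_sub_one_eq_mod]
         have := h 8
         omega

theorem enc_injective : Function.Injective enc := fun π ρ h =>
  Equiv.ext fun x => Fin.ext (by rw [← enc_digit π x, ← enc_digit ρ x, h])

/-- The image of a point under a letter. -/
noncomputable def digit (k x : Nat) : Nat :=
  Nat.land (Nat.shiftRight (sigStore.get k) (Nat.mul 4 x)) 15

theorem digit_letter : ∀ (b : Fin 7) (c : Bool) (x : Fin 9),
    digit (code (b, c)) x.val = ((FreeGroup.lift perm9 (FreeGroup.mk [(b, c)])) x).val := by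
  simp only [FreeGroup.lift_mk]
  decide +kernel

theorem sigStep_enc (π : Equiv.Perm (Fin 9)) (b : Fin 7) (c : Bool) :
    sigStep (code (b, c)) (enc π) = enc (π * FreeGroup.lift perm9 (FreeGroup.mk [(b, c)])) := by
  set ρ := FreeGroup.lift perm9 (FreeGroup.mk [(b, c)]) with hρ
  have hd : ∀ x : Fin 9,
      Nat.land (Nat.shiftRight (enc π) (Nat.mul 4 (Nat.land
        (Nat.shiftRight (sigStore.get (code (b, c))) (Nat.mul 4 x.val)) 15))) 15 = (π (ρ x)).val := by
    intro x
    have e := digit_letter b c x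
    unfold digit at e
    rw [e]
    exact enc_digit π _
  have hb : Nat.blt (code (b, c)) 14 = true := blt_iff.2 (code_lt _)
  simp only [sigStep, force_eq, hb]
  have h0 := hd 0; have h1 := hd 1; have h2 := hd 2; have h3 := hd 3; have h4 := hd 4
  have h5 := hd 5; have h6 := hd 6; have h7 := hd 7; have h8 := hd 8
  simp only [Fin.coe_ofNat_eq_mod, Nat.zero_mod, Nat.reduceMod] at h0 h1 h2 h3 h4 h5 h6 h7 h8
  show Nat.add (Nat.add (Nat.add (Nat.add (Nat.add (Nat.add (Nat.add (Nat.add (Nat.add 0 _) _) _) _) _) _) _) _) _ = _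
  rw [h0, h1, h2, h3, h4, h5, h6, h7, h8]
  simp only [enc, Equiv.Perm.mul_apply]
  simp only [Nat.shiftLeft_eq', Nat.shiftLeft_eq, Nat.mul_eq, Nat.add_eq]
  ring

theorem sigRun_enc : ∀ (l : List (Fin 7 × Bool)) (π : Equiv.Perm (Fin 9)),
    sigRun (l.map code) (enc π) = enc (π * FreeGroup.lift perm9 (FreeGroup.mk l))
  | [], π => by
    rw [show FreeGroup.mk ([] : List (Fin 7 × Bool)) = 1 from rfl, map_one, mul_one]
    rfl
  | (b, c) :: l, π => by
    rw [show FreeGroup.mk ((b, c) :: l) = FreeGroup.mk [(b, c)] * FreeGroup.mk l by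
      rw [FreeGroup.mul_mk]; rfl, map_mul, ← mul_assoc, List.map_cons, sigRun_cons, sigStep_enc,
      sigRun_enc l]

end Cfsg.Agent.ThRel.Model
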