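import Cfsg.Agent.ThRel.Model.Data

/-!
# Codes of the extraspecial group `2^(1+8)`

Bit `i < 8` of a code is the exponent of the `i`th involution, bit 8 that of the central one; any two
of the eight involutions differ from commuting by the central one.
-/

set_option autoImplicit false
set_option maxRecDepth 100000

namespace Cfsg.Agent.ThRel.Model

open Cfsg.Agent.CosetCert

/-- The parity of eight bits. -/
def par8 (v : Nat) : Nat :=
  let a := v ^^^ (v >>> 4)
  let b := a ^^^ (a >>> 2)
  (b ^^^ (b >>> 1)) &&& 1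

/-- Bit `i` is the parity of the bits below `i`. -/
def low8 (v : Nat) : Nat :=
  let a := (v <<< 1)
  let b := a ^^^ (a <<< 1)
  let c := b ^^^ (b <<< 2)
  (c ^^^ (c <<< 4)) &&& 255

/-- The cocycle. -/
def beta (m n : Nat) : Nat := par8 ((m &&& 255) &&& low8 (n &&& 255))

/-- The product of codes. -/
def mulQ (m n : Nat) : Nat := m ^^^ n ^^^ (beta m n <<< 8)

/-- The inverse of a code. -/
def invQ (m : Nat) : Nat := m ^^^ (beta m m <<< 8)

theorem par8_xor (v w : Nat) : par8 (v ^^^ w) = par8 v ^^^ par8 w := by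
  simp only [par8, Nat.shiftRight_xor_distrib, Nat.and_xor_distrib_right]
  ac_rfl

theorem low8_xor (v w : Nat) : low8 (v ^^^ w) = low8 v ^^^ low8 w := by
  simp only [low8, Nat.shiftLeft_xor_distrib, Nat.and_xor_distrib_right]
  ac_rfl

theorem beta_xor_left (m m' n : Nat) : beta (m ^^^ m') n = beta m n ^^^ beta m' n := by
  simp only [beta, Nat.and_xor_distrib_right, par8_xor]

theorem beta_xor_right (m n n' : Nat) : beta m (n ^^^ n') = beta m n ^^^ beta m n' := by
  simp only [beta, Nat.and_xor_distrib_right, low8_xor, Nat.and_xor_distrib_left, par8_xor]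

theorem high_and (e : Nat) : (e <<< 8) &&& 255 = 0 := by
  rw [show (255 : Nat) = 2 ^ 8 - 1 from rfl, Nat.and_two_pow_sub_one_eq_mod, Nat.shiftLeft_eq]
  simp

theorem beta_high_left (e n : Nat) : beta (e <<< 8) n = 0 := by
  simp [beta, high_and, par8]

theorem beta_high_right (m e : Nat) : beta m (e <<< 8) = 0 := by
  simp [beta, high_and, low8, par8]

theorem mulQ_assoc (a b c : Nat) : mulQ (mulQ a b) c = mulQ a (mulQ b c) := by
  simp only [mulQ, beta_xor_left, beta_xor_right, beta_high_left, beta_high_right, Nat.xor_zero,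
    Nat.shiftLeft_xor_distrib]
  ac_rfl

theorem mulQ_zero (a : Nat) : mulQ a 0 = a := by simp [mulQ, beta, low8, par8]

theorem zero_mulQ (a : Nat) : mulQ 0 a = a := by simp [mulQ, beta, par8]

theorem beta_le (m n : Nat) : beta m n ≤ 1 := Nat.and_le_right

theorem mulQ_lt {a b : Nat} (ha : a < 512) (hb : b < 512) : mulQ a b < 512 :=
  Nat.xor_lt_two_pow (n := 9) (Nat.xor_lt_two_pow (n := 9) ha hb) (by
    have := beta_le a b
    rw [Nat.shiftLeft_eq]
    omega)

theorem invQ_spec : ∀ a : Fin 512, invQ a.val < 512 ∧ mulQ (invQ a.val) a.val = 0 ∧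
    mulQ a.val (invQ a.val) = 0 := by
  decide +kernel

/-- The code of the `i`th involution. -/
def gQ (i : Nat) : Nat := 1 <<< i

/-- The code of the central involution. -/
def zQ : Nat := 256

/-- The word in the nine generators of a code: the indices of its bits. -/
def bitsQ (n : Nat) : List Nat := (List.range 9).filter fun i => (n >>> i) % 2 == 1

theorem bitsQ_spec : ∀ a : Fin 512, (bitsQ a.val).foldl (fun r i => mulQ r (gQ i)) 0 = a.val := by
  decide +kernel

/-- Induction along the nine generators. -/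
theorem code_induction {P : Nat → Prop} (h0 : P 0) (hs : ∀ r, r < 512 → ∀ i, i < 9 → P r → P (mulQ r (gQ i)))
    {a : Nat} (ha : a < 512) : P a := by
  have key : ∀ l : List Nat, (∀ i ∈ l, i < 9) → ∀ r, r < 512 → P r →
      (l.foldl (fun r i => mulQ r (gQ i)) r < 512 ∧ P (l.foldl (fun r i => mulQ r (gQ i)) r)) := by
    intro l
    induction l with
    | nil => exact fun _ r hr hp => ⟨hr, hp⟩
    | cons i l ih =>
      intro hl r hr hp
      have hi : i < 9 := hl i List.mem_cons_self
      refine ih (fun j hj => hl j (List.mem_cons_of_mem _ hj)) _ (mulQ_lt hr ?_) (hs r hr i hi hp)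
      exact (show ∀ j : Fin 9, gQ j.val < 512 by decide) ⟨i, hi⟩
  have := (key (bitsQ a) (fun i hi => List.mem_range.1 (List.mem_filter.1 hi).1) 0 (by norm_num) h0).2
  rwa [bitsQ_spec ⟨a, ha⟩] at this

/-- Conjugation by a letter, on codes. -/
noncomputable def phiQ (k r : Nat) : Nat :=
  Nat.land (Nat.shiftRight (phiStore.get k) (Nat.mul 9 r)) 511

theorem phiQ_lt (k r : Nat) : phiQ k r < 512 := Nat.lt_succ_of_le Nat.and_le_right

/-- Checking that `phiQ k` respects right multiplication by the generators. -/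
noncomputable def checkPhi (k : Nat) : Bool :=
  gate (Nat.beq (phiQ k 0) 0) (allFrom (fun r => allFrom (fun i =>
    Nat.beq (phiQ k (mulQ r (gQ i))) (mulQ (phiQ k r) (phiQ k (gQ i)))) 0 9) 0 512)

theorem checkPhi_ok : allFrom checkPhi 0 14 = true := by decide +kernel

theorem phiQ_gen {k r i : Nat} (hk : k < 14) (hr : r < 512) (hi : i < 9) :
    phiQ k (mulQ r (gQ i)) = mulQ (phiQ k r) (phiQ k (gQ i)) := by
  have h := (allFrom_iff _ _ _).1 checkPhi_ok k (Nat.zero_le _) (by omega)
  simp only [checkPhi, gate_eq, Bool.and_eq_true] at h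
  have h2 := (allFrom_iff _ _ _).1 ((allFrom_iff _ _ _).1 h.2 r (Nat.zero_le _) (by omega)) i
    (Nat.zero_le _) (by omega)
  exact Nat.eq_of_beq_eq_true h2

theorem phiQ_zero {k : Nat} (hk : k < 14) : phiQ k 0 = 0 := by
  have h := (allFrom_iff _ _ _).1 checkPhi_ok k (Nat.zero_le _) (by omega)
  simp only [checkPhi, gate_eq, Bool.and_eq_true] at h
  exact Nat.eq_of_beq_eq_true h.1

theorem phiQ_mul {k a b : Nat} (hk : k < 14) (ha : a < 512) (hb : b < 512) :
    phiQ k (mulQ a b) = mulQ (phiQ k a) (phiQ k b) := by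
  refine code_induction (P := fun b => phiQ k (mulQ a b) = mulQ (phiQ k a) (phiQ k b)) ?_ ?_ hb
  · rw [mulQ_zero, phiQ_zero hk, mulQ_zero]
  · intro r hr i hi ih
    rw [← mulQ_assoc, phiQ_gen hk (mulQ_lt ha hr) hi, ih, phiQ_gen hk hr hi, mulQ_assoc]

end Cfsg.Agent.ThRel.Model
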